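import Groth.Agent.H16Derived.KInjRes.Main
import Groth.Agent.H15Site.FlatAdjD
import Mathlib.CategoryTheory.ObjectProperty.FullSubcategory

/-!
# The derived functor of an idempotent subfunctor of the identity
-/

set_option autoImplicit false
set_option linter.style.haveILetI false
set_option linter.unusedSectionVars false
set_option backward.isDefEq.respectTransparency false

universe w v u

open CategoryTheory CategoryTheory.Limits

namespace Groth.Agent.H8FTors.AbsDer

open H16Derived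

variable {A : Type u} [Category.{v} A] [Abelian A] (Γ : A ⥤ A) [Γ.Additive] (γ : Γ ⟶ 𝟭 A)

/-- The subcomplex. -/
noncomputable def γC (C : CochainComplex A ℤ) :
    (Γ.mapHomologicalComplex (ComplexShape.up ℤ)).obj C ⟶ C where
  f n := γ.app (C.X n)
  comm' i j _ := (γ.naturality (C.d i j)).symm

variable {Γ γ}

/-- The hypotheses: a torsion class with its coreflection and the key quasi-isomorphism. -/
structure Hyp (Γ : A ⥤ A) [Γ.Additive] (γ : Γ ⟶ 𝟭 A) (P : ObjectProperty A) : Prop where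
  mono : ∀ M, Mono (γ.app M)
  mem : ∀ M, P (Γ.obj M)
  iso : ∀ M, P M → IsIso (γ.app M)
  of_mono : ∀ {M N : A} (φ : M ⟶ N), Mono φ → P N → P M
  of_epi : ∀ {M N : A} (φ : M ⟶ N), Epi φ → P M → P N
  qis : ∀ C : CochainComplex A ℤ, (∀ n, Injective (C.X n)) → (∀ i, P (C.homology i)) → QuasiIso (γC Γ γ C)

variable {P : ObjectProperty A}

theorem Hyp.homology_mem (h : Hyp Γ γ P) (C : CochainComplex A ℤ) (hC : ∀ n, P (C.X n)) (i : ℤ) :
    P (C.homology i) :=
  h.of_epi (C.homologyπ i) inferInstance (h.of_mono (C.iCycles i) inferInstance (hC i))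

theorem Hyp.map_γ (h : Hyp Γ γ P) (M : A) : Γ.map (γ.app M) = γ.app (Γ.obj M) := by
  haveI := h.mono M
  rw [← cancel_mono (γ.app M)]
  exact γ.naturality (γ.app M)

theorem Hyp.isIso_map_γ (h : Hyp Γ γ P) (M : A) : IsIso (Γ.map (γ.app M)) := by
  rw [h.map_γ]
  exact h.iso _ (h.mem M)

variable [HasDerivedCategory.{w} A] [IsGrothendieckAbelian.{v} A]

/-- Termwise application, to the derived category. -/
noncomputable abbrev Γh (Γ : A ⥤ A) [Γ.Additive] :
    HomotopyCategory A (ComplexShape.up ℤ) ⥤ DerivedCategory A :=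
  Γ.mapHomotopyCategory (ComplexShape.up ℤ) ⋙ DerivedCategory.Qh

/-- The quotient to the homotopy category. -/
noncomputable abbrev qK : CochainComplex A ℤ ⥤ HomotopyCategory A (ComplexShape.up ℤ) :=
  HomotopyCategory.quotient A (ComplexShape.up ℤ)

theorem hasPointwise : (Γh Γ).HasPointwiseRightDerivedFunctor (HomotopyCategory.quasiIso A (ComplexShape.up ℤ)) :=
  RDerived.hasPointwiseRightDerivedFunctor_of_resolutions DerivedCategory.Qh _ _ fun M => by
    obtain ⟨I, hI, s, hs⟩ := H15Site.FlatAdjD.exists_local M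
    exact ⟨_, s, hs, fun K => CochainComplex.IsKInjective.Qh_map_bijective K I⟩

theorem exists_model (X : DerivedCategory A) :
    ∃ (I : CochainComplex A ℤ) (_ : I.IsKInjective) (_ : ∀ n, Injective (I.X n)),
      Nonempty (X ≅ DerivedCategory.Qh.obj (qK.obj I)) := by
  obtain ⟨N, j, hN⟩ := KInjRes.exists_resolution_functor (A := A)
  let C := DerivedCategory.Q.objPreimage X
  refine ⟨N.obj C, (hN C).2.2.1, (hN C).2.2.2, ⟨?_⟩⟩
  haveI := (hN C).2.1
  haveI : IsIso (DerivedCategory.Q.map (j.app C)) := (DerivedCategory.isIso_Q_map_iff_quasiIso A _).2 this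
  exact (DerivedCategory.Q.objObjPreimageIso X).symm ≪≫ asIso (DerivedCategory.Q.map (j.app C)) ≪≫
    ((DerivedCategory.quotientCompQhIso A).app (N.obj C)).symm

/-- The cohomology lies in the class. -/
def InP (P : ObjectProperty A) (X : DerivedCategory A) : Prop :=
  ∀ i, P ((DerivedCategory.homologyFunctor A i).obj X)

theorem inP_iff (hP : P.IsClosedUnderIsomorphisms) (C : CochainComplex A ℤ) :
    InP P (DerivedCategory.Qh.obj (qK.obj C)) ↔ ∀ i, P (C.homology i) := by
  refine forall_congr' fun i => P.prop_iff_of_iso ?_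
  exact (DerivedCategory.homologyFunctor A i).mapIso ((DerivedCategory.quotientCompQhIso A).app C) ≪≫
    (DerivedCategory.homologyFunctorFactors A i).app C

theorem isIso_Qh_map_iff {C D : CochainComplex A ℤ} (φ : C ⟶ D) :
    IsIso (DerivedCategory.Qh.map (qK.map φ)) ↔ QuasiIso φ := by
  rw [← DerivedCategory.isIso_Q_map_iff_quasiIso A φ]
  exact (NatIso.isIso_map_iff (DerivedCategory.quotientCompQhIso A) φ)

variable (R : DerivedCategory A ⥤ DerivedCategory A) (β : Γh Γ ⟶ DerivedCategory.Qh ⋙ R)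
  [R.IsRightDerivedFunctor β (HomotopyCategory.quasiIso A (ComplexShape.up ℤ))]
  (ε : R ⟶ 𝟭 (DerivedCategory A))

/-- The map to the identity is induced by the inclusion. -/
def Fac (γ : Γ ⟶ 𝟭 A) : Prop := ∀ C : CochainComplex A ℤ,
  β.app (qK.obj C) ≫ ε.app (DerivedCategory.Qh.obj (qK.obj C)) = DerivedCategory.Qh.map (qK.map (γC Γ γ C))

variable {R β ε}

theorem isIso_β (I : CochainComplex A ℤ) [I.IsKInjective] : IsIso (β.app (qK.obj I)) :=
  haveI := hasPointwise (Γ := Γ)
  RDerived.isIso_unit_app_of_bijective DerivedCategory.Qh (HomotopyCategory.quasiIso A (ComplexShape.up ℤ))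
    (Γh Γ) R β _ fun K => CochainComplex.IsKInjective.Qh_map_bijective K I

theorem isClosedUnderIsomorphisms (h : Hyp Γ γ P) : P.IsClosedUnderIsomorphisms :=
  ⟨fun e hX => h.of_epi e.hom inferInstance hX⟩

include β in
theorem inP_R (h : Hyp Γ γ P) (X : DerivedCategory A) : InP P (R.obj X) := by
  haveI := isClosedUnderIsomorphisms h
  obtain ⟨I, hK, hI, ⟨e⟩⟩ := exists_model X
  haveI := isIso_β (Γ := Γ) (R := R) (β := β) I
  intro i
  refine P.prop_of_iso ((DerivedCategory.homologyFunctor A i).mapIso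
    (asIso (β.app (qK.obj I)) ≪≫ R.mapIso e.symm)) ?_
  exact (inP_iff inferInstance ((Γ.mapHomologicalComplex (ComplexShape.up ℤ)).obj I)).2
    (h.homology_mem _ fun n => h.mem (I.X n)) i

theorem isIso_ε_iff (h : Hyp Γ γ P) (hε : Fac R β ε γ) (X : DerivedCategory A) :
    IsIso (ε.app X) ↔ InP P X := by
  haveI := isClosedUnderIsomorphisms h
  refine ⟨fun _ i => P.prop_of_iso ((DerivedCategory.homologyFunctor A i).mapIso (asIso (ε.app X)))
    (inP_R (β := β) h X i), fun hX => ?_⟩
  obtain ⟨I, hK, hI, ⟨e⟩⟩ := exists_model X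
  haveI := isIso_β (Γ := Γ) (R := R) (β := β) I
  have hI' : ∀ i, P (I.homology i) := (inP_iff inferInstance I).1 fun i =>
    P.prop_of_iso ((DerivedCategory.homologyFunctor A i).mapIso e) (hX i)
  haveI : IsIso (β.app (qK.obj I) ≫ ε.app (DerivedCategory.Qh.obj (qK.obj I))) := by
    rw [hε]
    exact (isIso_Qh_map_iff _).2 (h.qis I hI hI')
  haveI := IsIso.of_isIso_comp_left (β.app (qK.obj I)) (ε.app (DerivedCategory.Qh.obj (qK.obj I)))
  exact (NatTrans.isIso_app_iff_of_iso ε e).2 this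

theorem isIso_β_of_mem (h : Hyp Γ γ P) (hε : Fac R β ε γ) (C : CochainComplex A ℤ) (hC : ∀ n, P (C.X n)) :
    IsIso (β.app (qK.obj C)) := by
  haveI := isClosedUnderIsomorphisms h
  haveI : IsIso (ε.app (DerivedCategory.Qh.obj (qK.obj C))) :=
    (isIso_ε_iff h hε _).2 ((inP_iff inferInstance C).2 (h.homology_mem C hC))
  haveI : IsIso (γC Γ γ C) := by
    haveI : ∀ n, IsIso ((γC Γ γ C).f n) := fun n => h.iso _ (hC n)
    exact HomologicalComplex.Hom.isIso_of_components _
  haveI : IsIso (β.app (qK.obj C) ≫ ε.app (DerivedCategory.Qh.obj (qK.obj C))) := by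
    rw [hε]
    infer_instance
  exact IsIso.of_isIso_comp_right _ (ε.app (DerivedCategory.Qh.obj (qK.obj C)))

theorem isIso_map_ε (h : Hyp Γ γ P) (hε : Fac R β ε γ) (X : DerivedCategory A) :
    IsIso (R.map (ε.app X)) := by
  obtain ⟨I, hK, hI, ⟨e⟩⟩ := exists_model X
  suffices H : IsIso (R.map (ε.app (DerivedCategory.Qh.obj (qK.obj I)))) by
    have e1 : ε.app X = R.map e.hom ≫ ε.app _ ≫ e.inv := by
      rw [← Category.assoc, ε.naturality]
      simp
    rw [e1, R.map_comp, R.map_comp]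
    haveI := H
    infer_instance
  haveI := isIso_β (Γ := Γ) (R := R) (β := β) I
  let ΓI := (Γ.mapHomologicalComplex (ComplexShape.up ℤ)).obj I
  haveI := isIso_β_of_mem h hε ΓI fun n => h.mem _
  haveI : IsIso ((Γ.mapHomologicalComplex (ComplexShape.up ℤ)).map (γC Γ γ I)) := by
    haveI : ∀ n, IsIso (((Γ.mapHomologicalComplex (ComplexShape.up ℤ)).map (γC Γ γ I)).f n) :=
      fun n => h.isIso_map_γ _
    exact HomologicalComplex.Hom.isIso_of_components _
  haveI : IsIso ((Γh Γ).map (qK.map (γC Γ γ I))) := by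
    show IsIso (DerivedCategory.Qh.map (qK.map ((Γ.mapHomologicalComplex (ComplexShape.up ℤ)).map (γC Γ γ I))))
    infer_instance
  have hn := β.naturality (qK.map (γC Γ γ I))
  haveI : IsIso (β.app (qK.obj ΓI) ≫ (DerivedCategory.Qh ⋙ R).map (qK.map (γC Γ γ I))) := by
    rw [← hn]
    infer_instance
  haveI h1 : IsIso ((DerivedCategory.Qh ⋙ R).map (qK.map (γC Γ γ I))) :=
    IsIso.of_isIso_comp_left (β.app (qK.obj ΓI)) _
  haveI : IsIso (R.map (β.app (qK.obj I)) ≫ R.map (ε.app (DerivedCategory.Qh.obj (qK.obj I)))) := by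
    rw [← R.map_comp, hε]
    exact h1
  exact IsIso.of_isIso_comp_left (R.map (β.app (qK.obj I))) _

theorem bijective (h : Hyp Γ γ P) (hε : Fac R β ε γ) (E F : DerivedCategory A) (hE : InP P E) :
    Function.Bijective (fun φ : E ⟶ R.obj F => φ ≫ ε.app F) := by
  haveI := (isIso_ε_iff h hε E).2 hE
  haveI := isIso_map_ε h hε F
  refine ⟨fun φ ψ e => ?_, fun φ => ⟨inv (ε.app E) ≫ R.map φ, ?_⟩⟩
  · have e1 : R.map φ = R.map ψ := by
      rw [← cancel_mono (R.map (ε.app F)), ← R.map_comp, ← R.map_comp]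
      exact congrArg R.map e
    have h1 := ε.naturality φ
    have h2 := ε.naturality ψ
    simp only [Functor.id_obj, Functor.id_map] at h1 h2
    rw [← cancel_epi (ε.app E), ← h1, ← h2, e1]
  · show (inv (ε.app E) ≫ R.map φ) ≫ ε.app F = φ
    have h1 := ε.naturality φ
    simp only [Functor.id_obj, Functor.id_map] at h1
    rw [Category.assoc, h1, IsIso.inv_hom_id_assoc]

end Groth.Agent.H8FTors.AbsDer
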