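import Groth.Agent.H8FTors.AbsDer
import Groth.Agent.H15Site.CoreflDer
import Mathlib.CategoryTheory.Abelian.Subcategory

/-!
# The derived category of a coreflective class
-/

set_option autoImplicit false
set_option linter.style.haveILetI false
set_option linter.unusedSectionVars false
set_option backward.isDefEq.respectTransparency false

universe w w' v u

open CategoryTheory CategoryTheory.Limits

namespace Groth.Agent.H8FTors.AbsSub

open AbsDer H16Derived

variable {A : Type u} [Category.{v} A] [Abelian A] {Γ : A ⥤ A} [Γ.Additive] {γ : Γ ⟶ 𝟭 A}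
  {P : ObjectProperty A} (h : Hyp Γ γ P)

/-- The coreflection. -/
noncomputable def corefl : A ⥤ P.FullSubcategory := P.lift Γ h.mem

/-- The inclusion is left adjoint to the coreflection. -/
noncomputable def adj : P.ι ⊣ corefl h :=
  Adjunction.mkOfHomEquiv
    { homEquiv := fun T M =>
        { toFun := fun g => ObjectProperty.homMk
            (haveI := h.iso _ T.property; inv (γ.app T.obj) ≫ Γ.map g)
          invFun := fun k => k.hom ≫ γ.app M
          left_inv := fun g => by
            haveI := h.iso _ T.property
            show (inv (γ.app T.obj) ≫ Γ.map g) ≫ γ.app M = g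
            have h1 := γ.naturality g
            simp only [Functor.id_obj, Functor.id_map] at h1
            exact (Category.assoc _ _ _).trans ((congrArg (inv (γ.app T.obj) ≫ ·) h1).trans
              (IsIso.inv_hom_id_assoc (γ.app T.obj) g))
          right_inv := fun k => by
            haveI := h.iso _ T.property
            haveI := h.mono M
            refine ObjectProperty.hom_ext _ ((cancel_mono (γ.app M)).1 ?_)
            show (inv (γ.app T.obj) ≫ Γ.map (k.hom ≫ γ.app M)) ≫ γ.app M = k.hom ≫ γ.app M
            have h1 := γ.naturality (k.hom ≫ γ.app M)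
            simp only [Functor.id_obj, Functor.id_map] at h1
            exact (Category.assoc _ _ _).trans ((congrArg (inv (γ.app T.obj) ≫ ·) h1).trans
              (IsIso.inv_hom_id_assoc (γ.app T.obj) _)) }
      homEquiv_naturality_left_symm := fun a k => by
        show (a ≫ k).hom ≫ γ.app _ = a.hom ≫ k.hom ≫ γ.app _
        exact Category.assoc _ _ _
      homEquiv_naturality_right := fun {T M M'} g φ => by
        haveI := h.iso _ T.property
        refine ObjectProperty.hom_ext _ ?_
        show inv (γ.app T.obj) ≫ Γ.map (g ≫ φ) = (inv (γ.app T.obj) ≫ Γ.map g) ≫ Γ.map φ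
        exact (congrArg (inv (γ.app T.obj) ≫ ·) (Γ.map_comp g φ)).trans (Category.assoc _ _ _).symm }

theorem counit_app (M : A) : (adj h).counit.app M = γ.app M :=
  Category.id_comp _

variable [P.ContainsZero] [P.IsClosedUnderKernels] [P.IsClosedUnderCokernels] [P.IsClosedUnderFiniteProducts]
  [PreservesFiniteLimits P.ι] [PreservesFiniteColimits P.ι]
  [HasDerivedCategory.{w} A] [HasDerivedCategory.{w'} P.FullSubcategory] [IsGrothendieckAbelian.{v} A]

include h in
theorem inP_map (X : DerivedCategory P.FullSubcategory) : InP P (P.ι.mapDerivedCategory.obj X) := by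
  haveI := isClosedUnderIsomorphisms h
  intro i
  let C := DerivedCategory.Q.objPreimage X
  let e := P.ι.mapDerivedCategory.mapIso (DerivedCategory.Q.objObjPreimageIso X)
  refine P.prop_of_iso ((DerivedCategory.homologyFunctor A i).mapIso
    ((P.ι.mapDerivedCategoryFactors.app C).symm ≪≫ e)) ?_
  refine P.prop_of_iso ((DerivedCategory.homologyFunctorFactors A i).app _).symm ?_
  exact h.homology_mem _ (fun n => (C.X n).property) i

include h in
theorem main : P.ι.mapDerivedCategory.Full ∧ P.ι.mapDerivedCategory.Faithful ∧
    ∀ G : DerivedCategory A, P.ι.mapDerivedCategory.essImage G ↔ InP P G := by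
  haveI := isClosedUnderIsomorphisms h
  haveI : (corefl h).Additive := (adj h).right_adjoint_additive
  obtain ⟨R, adjD, hadj⟩ := H15Site.CoreflDer.exists_adjunction (adj h)
  have hiso : ∀ G : DerivedCategory A, InP P G → IsIso (adjD.counit.app G) := by
    intro G hG
    obtain ⟨I, hK, hI, ⟨e⟩⟩ := exists_model G
    have hI' : ∀ i, P (I.homology i) := (inP_iff inferInstance I).1 fun i =>
      P.prop_of_iso ((DerivedCategory.homologyFunctor A i).mapIso e) (hG i)
    have hq : QuasiIso ((mapHomologicalComplexAdj (adj h) (ComplexShape.up ℤ)).counit.app I) := by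
      have he : (mapHomologicalComplexAdj (adj h) (ComplexShape.up ℤ)).counit.app I = γC Γ γ I := by
        refine HomologicalComplex.hom_ext _ _ fun n => ?_
        exact counit_app h (I.X n)
      rw [he]
      exact h.qis I hI hI'
    haveI := hadj I hK hq
    exact (NatTrans.isIso_app_iff_of_iso adjD.counit
      (e ≪≫ (DerivedCategory.quotientCompQhIso A).app I)).2 this
  haveI := H15Site.CoreflDer.isIso_unit adjD fun X => hiso _ (inP_map h X)
  haveI := (adjD.fullyFaithfulLOfIsIsoUnit).full
  haveI := (adjD.fullyFaithfulLOfIsIsoUnit).faithful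
  refine ⟨inferInstance, inferInstance, fun G => ⟨?_, fun hG => ?_⟩⟩
  · rintro ⟨X, ⟨e⟩⟩ i
    exact P.prop_of_iso ((DerivedCategory.homologyFunctor A i).mapIso e) (inP_map h X i)
  · haveI := hiso G hG
    exact ⟨R.obj G, ⟨asIso (adjD.counit.app G)⟩⟩

end Groth.Agent.H8FTors.AbsSub
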