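import Groth.Agent.H8FTors.Inj
import Mathlib.RingTheory.Flat.EquationalCriterion
import Mathlib.RingTheory.Noetherian.Basic

/-!
# Stabilisation of colon ideals, uniformly under flat extensions
-/

set_option autoImplicit false
set_option linter.style.haveILetI false
set_option linter.unusedSectionVars false
set_option backward.isDefEq.respectTransparency false

universe u

open CategoryTheory CategoryTheory.Limits TopologicalSpace Opposite

namespace Groth.Agent.H8FTors

/-- Colon ideals by powers of an element stabilise, uniformly in flat algebras. -/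
theorem exists_colon_bound {R : Type u} [CommRing R] [IsNoetherianRing R] {k : ℕ} (g : Fin k → R) (h : R) :
    ∃ c : ℕ, ∀ (n : ℕ) (S : Type u) [CommRing S] (φ : R →+* S), φ.Flat → ∀ a : S,
      a * φ (h ^ (n + c)) ∈ Ideal.span (Set.range (φ ∘ g)) →
        a * φ (h ^ c) ∈ Ideal.span (Set.range (φ ∘ g)) := by
  let J : Ideal R := Ideal.span (Set.range g)
  let chain : ℕ →o Ideal R :=
    ⟨fun n => Submodule.comap (LinearMap.mulRight R (h ^ n)) J, fun m n hmn a ha => by
      show a * h ^ n ∈ J
      rw [show h ^ n = h ^ m * h ^ (n - m) by rw [← pow_add]; congr 1; omega, ← mul_assoc]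
      exact J.mul_mem_right _ ha⟩
  obtain ⟨c, hc⟩ := monotone_stabilizes_iff_noetherian.2 inferInstance chain
  refine ⟨c, fun n S _ φ hφ a ha => ?_⟩
  letI := φ.toAlgebra
  haveI : Module.Flat R S := hφ
  obtain ⟨b, hb⟩ := Ideal.mem_span_range_iff_exists_fun.1 ha
  let α : Fin (k + 1) → R := Fin.cons (h ^ (n + c)) fun i => - g i
  let z : Fin (k + 1) → S := Fin.cons a b
  have hrel : ∑ i, α i • z i = 0 := by
    simp only [Fin.sum_univ_succ, α, z, Fin.cons_zero, Fin.cons_succ, Algebra.smul_def,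
      RingHom.algebraMap_toAlgebra, map_neg, neg_mul]
    rw [Finset.sum_neg_distrib, mul_comm (φ _) a, ← hb]
    simp only [Function.comp, mul_comm, add_neg_cancel]
  obtain ⟨l, c', y, hy, hc'⟩ := Module.Flat.isTrivialRelation_of_sum_smul_eq_zero (R := R) (M := S) (f := α) (x := z) hrel
  have hmem : ∀ q, c' 0 q * h ^ c ∈ J := fun q => by
    have h1 : c' 0 q ∈ chain (n + c) := by
      show c' 0 q * h ^ (n + c) ∈ J
      have h2 := hc' q
      simp only [Fin.sum_univ_succ, α, Fin.cons_zero, Fin.cons_succ, neg_mul, Finset.sum_neg_distrib] at h2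
      rw [mul_comm, eq_of_sub_eq_zero ((sub_eq_add_neg _ _).trans h2)]
      exact J.sum_mem fun i _ => J.mul_mem_right _ (Ideal.subset_span ⟨i, rfl⟩)
    rw [← hc (n + c) (Nat.le_add_left c n)] at h1
    exact h1
  have ha' : a = ∑ q, φ (c' 0 q) * y q := by
    have h3 := hy 0
    simp only [z, Fin.cons_zero, Algebra.smul_def, RingHom.algebraMap_toAlgebra] at h3
    exact h3
  rw [ha', Finset.sum_mul]
  refine Ideal.sum_mem _ fun q _ => ?_
  rw [mul_right_comm, ← map_mul]
  refine Ideal.mul_mem_right _ _ ?_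
  have := Ideal.mem_map_of_mem φ (hmem q)
  rwa [Ideal.map_span, ← Set.range_comp] at this

variable {T : Type u} [TopologicalSpace T] {O : Sheaf (Opens.grothendieckTopology T) CommRingCat.{u}}
  {A : Opens T} {r : ℕ} {f : Fin r → Fn O A}

/-- Flat restriction to a basis gives uniform stabilisation. -/
theorem colStab_of_flat [IsNoetherianRing (Fn O A)]
    (hflat : ∀ (W : Opens T) (_ : W ≤ A) (x : T), x ∈ W →
      ∃ (D : Opens T) (l : D ≤ W) (_ : x ∈ D) (lA : D ≤ A), (rO (O := O) lA).Flat) :
    ColStab f := by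
  classical
  intro S j m
  let e : Fin S.card ≃ S := S.equivFin.symm
  obtain ⟨c, hc⟩ := exists_colon_bound (fun i => f (e i) ^ m) (f j)
  refine ⟨c, fun n W l a ha x hx => ?_⟩
  obtain ⟨D, l', hxD, lA, hD⟩ := hflat W l x hx
  have himg : ∀ {V : Opens T} (k : V ≤ A),
      spanS f S m k = Ideal.span (Set.range ((rO (O := O) k) ∘ fun i => f (e i) ^ m)) := fun k => by
    refine congrArg Ideal.span (Set.ext fun y => ⟨?_, ?_⟩)
    · rintro ⟨i, hi, rfl⟩
      exact ⟨e.symm ⟨i, hi⟩, by simp⟩
    · rintro ⟨i, rfl⟩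
      exact ⟨e i, (e i).2, rfl⟩
  refine ⟨D, l', hxD, ?_⟩
  rw [himg]
  refine hc n _ (rO (O := O) lA) hD _ ?_
  have h1 := rO_mem_spanS l l' ha
  rw [map_mul, rO_rO, himg] at h1
  exact h1

end Groth.Agent.H8FTors
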