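import Groth.Agent.H8FTors.Colon
import Groth.Agent.H16Derived.KInjRes.Main

/-!
# Complexes of divisible modules with torsion cohomology
-/

set_option autoImplicit false
set_option linter.style.haveILetI false
set_option linter.unusedSectionVars false
set_option backward.isDefEq.respectTransparency false

universe u

open CategoryTheory CategoryTheory.Limits TopologicalSpace Opposite

namespace Groth.Agent.H8FTors

open H15Site.ModTensor H15Site.ModRel H15Site.LocGen

attribute [local instance 10000] H15Site.SiteInst.hasSheafifySite H15Site.SiteInst.hasWeakSheafifySite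

variable {T : Type u} [TopologicalSpace T] {O : Sheaf (Opens.grothendieckTopology T) CommRingCat.{u}}
  (I : FTors.IdealFam O)

/-- On opens below `A`, the powers of the functions define the same torsion as the family. -/
structure IsFrame {A : Opens T} {r : ℕ} (f : Fin r → Fn O A) : Prop where
  pow_mem : ∀ (n : ℕ) (i : Fin r), ∃ m, f i ^ m ∈ I.ideal n A
  mem_span : ∀ m : ℕ, ∃ n, ∀ (W : Opens T) (l : W ≤ A) (a : Fn O W), a ∈ I.ideal n W → ∀ x ∈ W,
    ∃ (W' : Opens T) (l' : W' ≤ W) (_ : x ∈ W'), rO l' a ∈ spanS f Finset.univ m (l'.trans l)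

/-- Every point has a frame with stabilising colon ideals. -/
def Good : Prop :=
  ∀ (x : T), ∃ (A : Opens T) (_ : x ∈ A) (r : ℕ) (f : Fin r → Fn O A), IsFrame I f ∧ ColStab f

/-- Divisibility with respect to every frame with stabilising colon ideals. -/
def IsDiv (M : ModSite.Mod O) : Prop :=
  ∀ x : T, ∃ (A : Opens T) (_ : x ∈ A) (r : ℕ) (f : Fin r → Fn O A), IsFrame I f ∧ DivAt f M

variable {I}

theorem isFrame_restrict {A A' : Opens T} {r : ℕ} {f : Fin r → Fn O A} (hf : IsFrame I f) (k : A' ≤ A) :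
    IsFrame I (fun i => rO k (f i)) where
  pow_mem n i := by
    obtain ⟨m, hm⟩ := hf.pow_mem n i
    refine ⟨m, ?_⟩
    rw [← map_pow]
    exact I.map_mem n (homOfLE k) hm
  mem_span m := by
    obtain ⟨n, hn⟩ := hf.mem_span m
    refine ⟨n, fun W l a ha x hx => ?_⟩
    obtain ⟨W', l', hxW, h⟩ := hn W (l.trans k) a ha x hx
    refine ⟨W', l', hxW, ?_⟩
    rw [spanS] at h ⊢
    rwa [Set.image_congr fun i _ => show rO (l'.trans l) (rO k (f i) ^ m) = rO (l'.trans (l.trans k)) (f i ^ m) by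
      rw [← map_pow, rO_rO]]

theorem divAt_restrict {A A' : Opens T} {r : ℕ} {f : Fin r → Fn O A} {M : ModSite.Mod O}
    (hf : DivAt f M) (k : A' ≤ A) : DivAt (fun i => rO k (f i)) M := by
  intro S j m
  obtain ⟨c, hc⟩ := hf S j m
  have e : ∀ {W : Opens T} (l : W ≤ A') (i : Fin r) (q : ℕ),
      rO l (rO k (f i) ^ q) = rO (l.trans k) (f i ^ q) := fun l i q => by rw [← map_pow, rO_rO]
  refine ⟨c, fun n W l s hs x hx => ?_⟩
  obtain ⟨W', l', hxW, t, ht, h⟩ := hc n W (l.trans k) s (fun i hi => by rw [← e]; exact hs i hi) x hx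
  refine ⟨W', l', hxW, t, fun i hi => by rw [e]; exact ht i hi, ?_⟩
  rw [e, e]
  exact h

/-- Killed by the powers of a frame means killed by a member of the family. -/
theorem killedBy_of_KS {A : Opens T} {r : ℕ} {f : Fin r → Fn O A} (hf : IsFrame I f) (m : ℕ) :
    ∃ n, ∀ (M : ModSite.Mod O) (W : Opens T) (l : W ≤ A) (s : Sct M W),
      KS f M Finset.univ m l s → FTors.KilledBy I M n s := by
  obtain ⟨n, hn⟩ := hf.mem_span m
  refine ⟨n, fun M W l s hs W' g a ha => ?_⟩
  refine sct_ext M _ 0 fun x hx => ?_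
  obtain ⟨W'', l', hxW, hmem⟩ := hn W' ((leOfHom g).trans l) a ha x hx
  refine ⟨W'', l', hxW, ?_⟩
  rw [map_zero]
  refine (rM_smul M l' a _).trans ?_
  exact smul_eq_zero_of_mem_spanS ((hs.rM (leOfHom g)).rM l') hmem

/-- Killed by a member of the family means killed by powers of a frame. -/
theorem KS_of_killedBy {A : Opens T} {r : ℕ} {f : Fin r → Fn O A} (hf : IsFrame I f) (n : ℕ) :
    ∃ m, ∀ (M : ModSite.Mod O) (W : Opens T) (l : W ≤ A) (s : Sct M W),
      FTors.KilledBy I M n s → KS f M Finset.univ m l s := by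
  choose m hm using hf.pow_mem n
  refine ⟨Finset.univ.sup m, fun M W l s hs i _ => ?_⟩
  have h1 : rO l (f i ^ Finset.univ.sup m) ∈ I.ideal n W := by
    rw [← Nat.sub_add_cancel (Finset.le_sup (f := m) (Finset.mem_univ i)), pow_add, map_mul]
    exact Ideal.mul_mem_left _ _ (I.map_mem n (homOfLE l) (hm i))
  have h2 := hs (𝟙 W) _ h1
  rwa [FTors.res_id] at h2

theorem isTorsSect_iff (M : ModSite.Mod O) {V : Opens T} (s : Sct M V) :
    FTors.IsTorsSect I M s ↔
      ∀ x ∈ V, ∃ (W : Opens T) (l : W ≤ V) (_ : x ∈ W) (n : ℕ), FTors.KilledBy I M n (rM M l s) := by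
  refine ⟨fun h x hx => ?_, fun h x hx => ?_⟩
  · obtain ⟨W, g, ⟨n, hn⟩, hxW⟩ := h x hx
    exact ⟨W, leOfHom g, hxW, n, hn⟩
  · obtain ⟨W, l, hxW, n, hn⟩ := h x hx
    exact ⟨W, homOfLE l, ⟨n, hn⟩, hxW⟩

theorem mono_gammaι (M : ModSite.Mod O) : Mono ((FTors.gammaι I).app M) :=
  mono_of_ap _ fun _ _ _ e => Subtype.ext e

theorem isIso_gammaι {M : ModSite.Mod O} (h : FTors.IsTors I M) : IsIso ((FTors.gammaι I).app M) := by
  haveI := mono_gammaι (I := I) M
  haveI : Epi ((FTors.gammaι I).app M) := epi_of_lift _ fun V t x hx =>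
    ⟨V, le_rfl, hx, ⟨t, h V t⟩, (rM_refl M le_rfl t).symm⟩
  exact isIso_of_mono_of_epi _

theorem isTors_gamma (M : ModSite.Mod O) : FTors.IsTors I ((FTors.gamma O I).obj M) := fun V s => by
  refine (Opens.grothendieckTopology T).superset_covering ?_ s.2
  rintro W g ⟨n, hn⟩
  exact ⟨n, fun W' k a ha => Subtype.ext (hn k a ha)⟩

theorem isTors_of_mono {M N : ModSite.Mod O} (φ : M ⟶ N) [Mono φ] (hN : FTors.IsTors I N) :
    FTors.IsTors I M := fun V s => by
  refine (Opens.grothendieckTopology T).superset_covering ?_ (hN V (ap φ V s))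
  rintro W g ⟨n, hn⟩
  refine ⟨n, fun W' k a ha => ap_injective φ W' ?_⟩
  rw [map_zero, map_smul]
  refine (congrArg (a • ·) ?_).trans (hn k a ha)
  exact ((FTors.res_hom M φ k _).symm.trans (congrArg _ (FTors.res_hom M φ g s).symm))

theorem isTors_of_epi {M N : ModSite.Mod O} (φ : M ⟶ N) [Epi φ] (hM : FTors.IsTors I M) :
    FTors.IsTors I N := fun V t => by
  refine (isTorsSect_iff N (t : Sct N V)).2 fun x hx => ?_
  obtain ⟨W, l, hxW, s, hs⟩ := exists_lift φ (t : Sct N V) hx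
  obtain ⟨W', l', hxW', n, hn⟩ := (isTorsSect_iff M s).1 (hM W s) x hxW
  refine ⟨W', l'.trans l, hxW', n, ?_⟩
  rw [← rM_rM N l l', ← hs, rM_ap]
  exact hn.hom φ

/-- Torsion cohomology, on sections. -/
theorem hTor_of_isTors {A : Opens T} {r : ℕ} {f : Fin r → Fn O A} (hf : IsFrame I f)
    (C : CochainComplex (ModSite.Mod O) ℤ) (h : ∀ i, FTors.IsTors I (C.homology i)) : HTor f C := by
  intro q p p' hq hp j W l z hz x hx
  have hprev : (ComplexShape.up ℤ).prev p = q := by rw [CochainComplex.prev]; omega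
  obtain ⟨y, hy⟩ := exists_ker (C.d p p') z hz
  let u : kernel (C.d p p') ⟶ C.cycles p :=
    C.liftCycles (kernel.ι _) p' (by simp [← hp]) (kernel.condition _)
  let c : Sct (C.homology p) W := ap (C.homologyπ p) W (ap u W y)
  obtain ⟨W1, l1, hx1, n, hn⟩ := (isTorsSect_iff _ c).1 (h p W c) x hx
  obtain ⟨m, hm⟩ := KS_of_killedBy hf n
  have hk := hm _ W1 (l1.trans l) _ hn j (Finset.mem_univ j)
  let S : ShortComplex (ModSite.Mod O) :=
    ShortComplex.mk (C.toCycles q p) (C.homologyπ p) (C.toCycles_comp_homologyπ q p)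
  have hS : S.Exact := ShortComplex.exact_of_g_is_cokernel _ (C.homologyIsCokernel q p hprev)
  have h0 : ap S.g W1 (rO (l1.trans l) (f j ^ m) • rM _ l1 (ap u W y)) = 0 := by
    show ap (C.homologyπ p) W1 _ = 0
    rw [map_smul, ← rM_ap]
    exact hk
  obtain ⟨W2, l2, hx2, w, hw⟩ := lift_of_exact S hS _ h0 hx1
  refine ⟨W2, l2.trans l1, hx2, m, w, ?_⟩
  have h1 : ap (C.iCycles p) W2 (ap (C.toCycles q p) W2 w) = ap (C.d q p) W2 w := by
    rw [ap_comp, HomologicalComplex.toCycles_i]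
  have h2 : ap (C.iCycles p) W (ap u W y) = z := by
    rw [ap_comp, HomologicalComplex.liftCycles_i, hy]
  rw [← h1]
  refine (congrArg (ap (C.iCycles p) W2) hw).trans ?_
  rw [rM_smul, map_smul, rO_rO, rM_rM, ← rM_ap, h2]

/-- The inclusion of the torsion subcomplex. -/
noncomputable def gammaC (C : CochainComplex (ModSite.Mod O) ℤ) :
    ((FTors.gamma O I).mapHomologicalComplex (ComplexShape.up ℤ)).obj C ⟶ C where
  f n := (FTors.gammaι I).app (C.X n)
  comm' i j _ := ((FTors.gammaι I).naturality (C.d i j)).symm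

/-- For a complex of divisible modules with torsion cohomology the torsion subcomplex is
quasi-isomorphic to the complex. -/
theorem quasiIso_gammaC (C : CochainComplex (ModSite.Mod O) ℤ)
    (hG : ∀ (x : T), ∃ (A : Opens T) (_ : x ∈ A) (r : ℕ) (f : Fin r → Fn O A),
      IsFrame I f ∧ ∀ p, DivAt f (C.X p))
    (hh : ∀ i, FTors.IsTors I (C.homology i)) : QuasiIso (gammaC (I := I) C) := by
  let c := gammaC (I := I) C
  haveI : Mono c := HomologicalComplex.mono_of_mono_f c fun n => mono_gammaι (I := I) (C.X n)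
  refine H16Derived.KInjRes.quasiIso_of_mono c fun p => ?_
  rw [HomologicalComplex.exactAt_iff' _ (p - 1) p (p + 1) (by simp) (by simp)]
  refine exact_of_lift _ fun V t ht x hx => ?_
  let Qc := cokernel c
  let π : ∀ k, C.X k ⟶ Qc.X k := fun k => (cokernel.π c).f k
  have hSk : ∀ k, (ShortComplex.mk (c.f k) (π k) (by
      rw [← HomologicalComplex.comp_f, cokernel.condition]; rfl)).ShortExact := fun k =>
    (H16Derived.KInjRes.shortExact_cokernel c).map_of_exact
      (HomologicalComplex.eval (ModSite.Mod O) (ComplexShape.up ℤ) k)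
  haveI : ∀ k, Epi (π k) := fun k => (hSk k).epi_g
  obtain ⟨W1, l1, hx1, y, hy⟩ := exists_lift (π p) t hx
  have h0 : ap (π (p + 1)) W1 (ap (C.d p (p + 1)) W1 y) = 0 := by
    rw [ap_comp, ← HomologicalComplex.Hom.comm, ← ap_comp, hy, ← rM_ap]
    exact (congrArg (rM _ l1) ht).trans (map_zero _)
  obtain ⟨W2, l2, hx2, s, hs⟩ := lift_of_exact _ (hSk (p + 1)).exact _ h0 hx1
  obtain ⟨A, hxA, r, f, hf, hD⟩ := hG x
  have hstor : FTors.IsTorsSect I _ (rM (C.X (p + 1)) l2 (ap (C.d p (p + 1)) W1 y)) := by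
    rw [← hs]
    exact s.2
  obtain ⟨W3, l3, hx3, n, hn⟩ := (isTorsSect_iff _ _).1 hstor x hx2
  obtain ⟨m, hm⟩ := KS_of_killedBy hf n
  have hk : KS f (C.X (p + 1)) Finset.univ m (inf_le_right (a := W3) (b := A))
      (ap (C.d p (p + 1)) (W3 ⊓ A) (rM (C.X p) (inf_le_left.trans (l3.trans l2)) y)) := by
    refine hm _ _ _ _ ?_
    rw [← rM_ap, ← rM_rM _ l2 (inf_le_left.trans l3), ← rM_rM _ l3 inf_le_left]
    exact hn.res (homOfLE inf_le_left)
  obtain ⟨W4, l4, hx4, w, m', hw⟩ := exists_sub_d C hD (hTor_of_isTors hf C hh) Finset.univ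
    (p - 1) p (p + 1) (by omega) rfl _ inf_le_right _ m hk x ⟨hx3, hxA⟩
  obtain ⟨n', hn'⟩ := killedBy_of_KS hf m'
  have htor : FTors.IsTorsSect I _ (rM (C.X p) l4 (rM (C.X p) (inf_le_left.trans (l3.trans l2)) y) -
      ap (C.d (p - 1) p) W4 w) :=
    FTors.IsTorsSect.of_killedBy (hn' _ _ _ _ hw)
  refine ⟨W4, ((l4.trans inf_le_left).trans (l3.trans l2)).trans l1, hx4, ap (π (p - 1)) W4 w, ?_⟩
  have hzero : ap (π p) W4 (rM (C.X p) l4 (rM (C.X p) (inf_le_left.trans (l3.trans l2)) y) -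
      ap (C.d (p - 1) p) W4 w) = 0 := by
    refine (congrArg (ap (π p) W4) (show _ = ap (c.f p) W4 ⟨_, htor⟩ from rfl)).trans ?_
    rw [ap_comp, show c.f p ≫ π p = 0 by rw [← HomologicalComplex.comp_f, cokernel.condition]; rfl]
    exact ap_zero _ _ _ _
  rw [map_sub, sub_eq_zero, ap_comp, ← rM_ap, ← rM_ap, hy, rM_rM, rM_rM] at hzero
  show ap ((cokernel c).d (p - 1) p) W4 (ap (π (p - 1)) W4 w) = _
  rw [ap_comp, HomologicalComplex.Hom.comm]
  exact hzero.symm

theorem quasiIso_gammaC_of_injective (hI : Good I) (C : CochainComplex (ModSite.Mod O) ℤ)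
    (hC : ∀ p, Injective (C.X p)) (hh : ∀ i, FTors.IsTors I (C.homology i)) :
    QuasiIso (gammaC (I := I) C) :=
  quasiIso_gammaC C (fun x => by
    obtain ⟨A, hxA, r, f, hf, hcol⟩ := hI x
    exact ⟨A, hxA, r, f, hf, fun p => haveI := hC p; divAt_of_injective hcol _⟩) hh

end Groth.Agent.H8FTors
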