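import Groth.Agent.H8FTors.Core
import Groth.Agent.H8FTors.AbsDer
import Groth.Agent.H10Coh.ModGroth

/-!
# The derived torsion functor of a good family of ideals on a ringed space
-/

set_option autoImplicit false
set_option linter.style.haveILetI false
set_option linter.unusedSectionVars false
set_option backward.isDefEq.respectTransparency false

universe u

open CategoryTheory CategoryTheory.Limits TopologicalSpace Opposite

attribute [local instance] HasDerivedCategory.standard

namespace Groth.Agent.H8FTors

open H15Site.ModTensor H15Site.ModRel H15Site.LocGen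

variable {T : Type u} [TopologicalSpace T] {O : Sheaf (Opens.grothendieckTopology T) CommRingCat.{u}}
  (I : FTors.IdealFam O)

theorem isGrothendieck_mod : IsGrothendieckAbelian.{u} (ModSite.Mod O) :=
  H10Coh.isGrothendieckAbelian_sheafOfModules _

attribute [local instance] isGrothendieck_mod

theorem hyp (hI : Good I) : AbsDer.Hyp (FTors.gamma O I) (FTors.gammaι I) (FTors.IsTors I) where
  mono := mono_gammaι (I := I)
  mem := isTors_gamma (I := I)
  iso _ h := isIso_gammaι h
  of_mono φ hφ h := haveI := hφ; isTors_of_mono φ h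
  of_epi φ hφ h := haveI := hφ; isTors_of_epi φ h
  qis C hC hh := quasiIso_gammaC_of_injective hI C hC hh

variable [FTors.HasRgamma I]

/-- The unit of the derived torsion functor. -/
noncomputable abbrev unitR :
    AbsDer.Γh (FTors.gamma O I) ⟶ DerivedCategory.Qh ⋙ FTors.Rgamma I :=
  (FTors.gammaKh I).totalRightDerivedUnit DerivedCategory.Qh
    (HomotopyCategory.quasiIso (ModSite.Mod O) (ComplexShape.up ℤ))

theorem fac : AbsDer.Fac (FTors.Rgamma I) (unitR I) (FTors.Rgammaε I) (FTors.gammaι I) := by
  intro C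
  refine (Functor.rightDerived_fac_app (FTors.Rgamma I) (unitR I)
    (HomotopyCategory.quasiIso (ModSite.Mod O) (ComplexShape.up ℤ)) _ _ (AbsDer.qK.obj C)).trans ?_
  show (FTors.gammaτ0 I).app C ≫ 𝟙 _ = _
  rw [Category.comp_id]
  simp only [FTors.gammaτ0, NatTrans.comp_app, Functor.associator_inv_app, Functor.associator_hom_app,
    Functor.leftUnitor_hom_app, Functor.whiskerRight_app, Category.id_comp]
  show DerivedCategory.Qh.map (𝟙 (AbsDer.qK.obj (((FTors.gamma O I).mapHomologicalComplex (ComplexShape.up ℤ)).obj C))) ≫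
    DerivedCategory.Qh.map (AbsDer.qK.map ((NatTrans.mapHomologicalComplex (FTors.gammaι I) (ComplexShape.up ℤ)).app C)) ≫
    DerivedCategory.Qh.map (AbsDer.qK.map ((Functor.mapHomologicalComplexIdIso (ModSite.Mod O) (ComplexShape.up ℤ)).hom.app C)) ≫
      𝟙 (DerivedCategory.Qh.obj (AbsDer.qK.obj C)) = _
  refine (congrArg (· ≫ _) (DerivedCategory.Qh.map_id _)).trans ((Category.id_comp _).trans ?_)
  refine (congrArg (_ ≫ ·) (Category.comp_id _)).trans ((DerivedCategory.Qh.map_comp _ _).symm.trans ?_)
  refine congrArg DerivedCategory.Qh.map ((AbsDer.qK.map_comp _ _).symm.trans (congrArg AbsDer.qK.map ?_))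
  refine HomologicalComplex.hom_ext _ _ fun n => ?_
  exact Category.comp_id ((FTors.gammaι I).app (C.X n))

variable {I}

theorem isIso_rgammaε_iff (hI : Good I) (E : DerivedCategory (ModSite.Mod O)) :
    IsIso ((FTors.Rgammaε I).app E) ↔ FTors.IsDTors I E :=
  AbsDer.isIso_ε_iff (hyp I hI) (fac I) E

theorem isDTors_rgamma (hI : Good I) (E : DerivedCategory (ModSite.Mod O)) :
    FTors.IsDTors I ((FTors.Rgamma I).obj E) :=
  AbsDer.inP_R (β := unitR I) (hyp I hI) E

theorem isIso_map_rgammaε (hI : Good I) (E : DerivedCategory (ModSite.Mod O)) :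
    IsIso ((FTors.Rgamma I).map ((FTors.Rgammaε I).app E)) :=
  AbsDer.isIso_map_ε (hyp I hI) (fac I) E

theorem comp_rgammaε_bijective (hI : Good I) (E F : DerivedCategory (ModSite.Mod O))
    (hE : FTors.IsDTors I E) :
    Function.Bijective (fun φ : E ⟶ (FTors.Rgamma I).obj F => φ ≫ (FTors.Rgammaε I).app F) :=
  AbsDer.bijective (hyp I hI) (fac I) E F hE

end Groth.Agent.H8FTors
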