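import Groth.Agent.H8FTors.StalkPull
import Groth.Agent.H8FTors.Core
import Mathlib.RingTheory.Flat.Basic

/-!
# Sections of flat inverse images annihilated by functions of the base
-/

set_option autoImplicit false
set_option linter.style.haveILetI false
set_option linter.unusedSectionVars false
set_option backward.isDefEq.respectTransparency false

universe u

open CategoryTheory CategoryTheory.Limits TopologicalSpace Opposite TensorProduct

namespace Groth.Agent.H8FTors

open H15Site.ModTensor H15Site.ModRel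

attribute [local instance 10000] H15Site.SiteInst.hasSheafifySite H15Site.SiteInst.hasWeakSheafifySite

variable {X Y : TopCat.{u}} {OX : Sheaf (Opens.grothendieckTopology X) CommRingCat.{u}}
  {OY : Sheaf (Opens.grothendieckTopology Y) CommRingCat.{u}} (g : X ⟶ Y)
  (sharp : OY ⟶ ((Opens.map g).sheafPushforwardContinuous CommRingCat.{u}
    (Opens.grothendieckTopology Y) (Opens.grothendieckTopology X)).obj OX)

variable {g} in
theorem exists_pre_le (hg : Topology.IsInducing g) {V : Opens X} {x : X} (hx : x ∈ V) :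
    ∃ (W : Opens Y) (_ : g x ∈ W), pre g W ≤ V := by
  obtain ⟨W, hW, e⟩ := hg.isOpen_iff.1 V.isOpen
  refine ⟨⟨W, hW⟩, ?_, fun y hy => ?_⟩
  · have : x ∈ g ⁻¹' W := e.symm ▸ hx
    exact this
  · show y ∈ (V : Set X)
    rw [← e]
    exact hy

/-- Restriction of a combination of images of sections. -/
theorem rM_comb (Q : ModSite.Mod OY) {W W' : Opens Y} (l : W' ≤ W) {ι : Type*} [Fintype ι] (q : ι → Sct Q W)
    (b : ι → Fn OX (pre g W)) :
    rM ((mor g sharp).pull.obj Q) (pre_mono g l) (∑ i, b i • uS g sharp Q (q i)) =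
      ∑ i, rO (pre_mono g l) (b i) • uS g sharp Q (rM Q l (q i)) := by
  rw [map_sum]
  refine Finset.sum_congr rfl fun i _ => ?_
  rw [rM_smul, uS_rM g sharp Q l]

variable (hg : Topology.IsInducing g) (hflat : ∀ x, (shSt g sharp x).Flat)

include hg hflat in
/-- A section of an inverse image annihilated by functions from the base is locally a combination of images of
annihilated sections. -/
theorem exists_killed_rep (Q : ModSite.Mod OY) {A : Opens Y} {k : ℕ} (f : Fin k → Fn OY A) {V : Opens X}
    (lV : V ≤ pre g A) (t : Sct ((mor g sharp).pull.obj Q) V)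
    (ht : ∀ i, rO lV (shV g sharp A (f i)) • t = 0) {x : X} (hx : x ∈ V) :
    ∃ (W : Opens Y) (lA : W ≤ A) (_ : g x ∈ W) (lW : pre g W ≤ V) (n : ℕ) (q : Fin n → Sct Q W)
      (b : Fin n → Fn OX (pre g W)),
      (∀ l i, rO lA (f i) • q l = 0) ∧
        rM ((mor g sharp).pull.obj Q) lW t = ∑ l, b l • uS g sharp Q (q l) := by
  classical
  letI := stAlg g sharp x
  haveI : Module.Flat (RSt OY (g x)) (RSt OX x) := hflat x
  have halg : algebraMap (RSt OY (g x)) (RSt OX x) = shSt g sharp x := rfl
  let F := (mor g sharp).pull.obj Q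
  let pe := pStL g sharp Q x halg
  have hbij := bijective_pStL g sharp Q x halg
  obtain ⟨τ, hτ⟩ := hbij.2 (gM F hx t)
  let r : Fin k → RSt OY (g x) := fun i => gR (x := g x) (V := A) (lV hx) (f i)
  have hr : ∀ i, r i • τ = 0 := fun i => hbij.1 <| by
    rw [map_zero, ← algebraMap_smul (RSt OX x), map_smul, hτ, halg, shSt_gR,
      ← gR_rO (O := OX) lV hx, ← gM_smul, ht, map_zero]
  let G : MSt Q (g x) →ₗ[RSt OY (g x)] (Fin k → MSt Q (g x)) := LinearMap.pi fun i => r i • LinearMap.id
  have hG : LinearMap.lTensor (RSt OX x) G τ = 0 := by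
    have h1 : ∀ σ : (BSt (OX := OX) g Q x),
        TensorProduct.piRight (RSt OY (g x)) (RSt OY (g x)) (RSt OX x) (fun _ : Fin k => MSt Q (g x))
          (LinearMap.lTensor (RSt OX x) G σ) = fun i => r i • σ := by
      intro σ
      induction σ using TensorProduct.induction_on with
      | zero => simp [Pi.zero_def]
      | add a b ha hb =>
        rw [map_add, map_add, ha, hb]
        funext i
        simp
      | tmul a m =>
        funext i
        simp [G, TensorProduct.smul_tmul']
    apply (TensorProduct.piRight (RSt OY (g x)) (RSt OY (g x)) (RSt OX x)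
      (fun _ : Fin k => MSt Q (g x))).injective
    rw [h1, map_zero]
    exact funext hr
  have hex := Module.Flat.lTensor_exact (RSt OX x) (LinearMap.exact_subtype_ker_map G)
  obtain ⟨τ', hτ'⟩ := (hex τ).1 hG
  have key : ∀ σ : (RSt OX x : Type u) ⊗[RSt OY (g x)] LinearMap.ker G,
      ∃ (W : Opens Y) (lA : W ≤ A) (hW : g x ∈ W) (n : ℕ) (q : Fin n → Sct Q W) (b : Fin n → Fn OX (pre g W)),
        (∀ l i, rO lA (f i) • q l = 0) ∧
          gM F (x := x) (V := pre g W) hW (∑ l, b l • uS g sharp Q (q l)) =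
            pe (LinearMap.lTensor (RSt OX x) (LinearMap.ker G).subtype σ) := by
    intro σ
    induction σ using TensorProduct.induction_on with
    | zero =>
      exact ⟨A, le_rfl, lV hx, 0, Fin.elim0, Fin.elim0, fun l => l.elim0, by
        rw [map_zero, map_zero, Fin.sum_univ_zero, map_zero]⟩
    | add a a' ha ha' =>
      obtain ⟨W, lA, hW, n, q, b, hq, hb⟩ := ha
      obtain ⟨W', lA', hW', n', q', b', hq', hb'⟩ := ha'
      let W0 := W ⊓ W'
      refine ⟨W0, inf_le_left.trans lA, ⟨hW, hW'⟩, n + n',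
        Fin.append (fun l => rM Q inf_le_left (q l)) (fun l => rM Q inf_le_right (q' l)),
        Fin.append (fun l => rO (pre_mono g inf_le_left) (b l)) (fun l => rO (pre_mono g inf_le_right) (b' l)),
        fun l i => ?_, ?_⟩
      · induction l using Fin.addCases with
        | left l =>
          rw [Fin.append_left, ← rO_rO lA inf_le_left, ← rM_smul, hq, map_zero]
        | right l =>
          rw [Fin.append_right, ← rO_rO lA' inf_le_right, ← rM_smul, hq', map_zero]
      · rw [map_add, map_add, ← hb, ← hb', Fin.sum_univ_add]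
        simp only [Fin.append_left, Fin.append_right, map_add]
        refine congrArg₂ (· + ·) ?_ ?_
        · refine (congrArg (gM F _) (rM_comb g sharp Q (inf_le_left : W0 ≤ W) q b).symm).trans ?_
          exact gM_rM F _ _ _
        · refine (congrArg (gM F _) (rM_comb g sharp Q (inf_le_right : W0 ≤ W') q' b').symm).trans ?_
          exact gM_rM F _ _ _
    | tmul a m =>
      obtain ⟨W, lA, hW, s, hs⟩ := exists_gM Q (x := g x) (U := A) (lV hx) m.1
      have hs' : ∀ i, ∃ (W' : Opens Y) (l : W' ≤ W) (_ : g x ∈ W'),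
          rM Q l (rO lA (f i) • s) = rM Q l 0 := fun i => by
        refine exists_res_eq Q hW ?_
        rw [gM_smul, gR_rO, hs, map_zero]
        exact congrFun m.2 i
      choose W1 l1 h1 e1 using hs'
      have hmem : g x ∈ (Finset.univ : Finset (Fin k)).inf W1 :=
        Finset.inf_induction (p := fun V : Opens Y => g x ∈ V) trivial (fun a ha b hb => ⟨ha, hb⟩) fun i _ => h1 i
      let W2 := W ⊓ (Finset.univ : Finset (Fin k)).inf W1
      obtain ⟨Va, la, hVa, α, hα⟩ := exists_gR (O := OX) (U := pre g W2) (x := x) ⟨hW, hmem⟩ a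
      obtain ⟨W3, hW3, hle⟩ := exists_pre_le hg hVa
      refine ⟨W3 ⊓ W2, inf_le_right.trans (inf_le_left.trans lA), ⟨hW3, hW, hmem⟩, 1,
        fun _ => rM Q (inf_le_right.trans inf_le_left) s,
        fun _ => rO (O := OX) ((pre_mono g inf_le_left).trans hle) α, fun _ i => ?_, ?_⟩
      · have hi : W3 ⊓ W2 ≤ W1 i :=
          inf_le_right.trans (inf_le_right.trans (Finset.inf_le (Finset.mem_univ i)))
        rw [← rO_rO lA (inf_le_right.trans inf_le_left), ← rM_smul, ← rM_rM Q (l1 i) hi, e1 i, map_zero, map_zero]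
      · rw [Fin.sum_univ_one, LinearMap.lTensor_tmul, gM_smul, gR_rO, hα]
        refine Eq.trans ?_ (pStL_tmul g sharp Q x halg a _).symm
        congr 1
        refine (pSt_gM g sharp Q x (V := W3 ⊓ W2) ⟨hW3, hW, hmem⟩ _).symm.trans ?_
        exact congrArg (pSt g sharp Q x) ((gM_rM Q _ _ s).trans hs)
  obtain ⟨W, lA, hW, n, q, b, hq, hb⟩ := key τ'
  rw [hτ', hτ] at hb
  obtain ⟨W1, hW1, hle1⟩ := exists_pre_le hg (show x ∈ V ⊓ pre g W from ⟨hx, hW⟩)
  have hx' : x ∈ pre g (W1 ⊓ W) := ⟨hW1, hW⟩
  have e : gM F hx' (rM F ((pre_mono g inf_le_left).trans (hle1.trans inf_le_left)) t) =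
      gM F hx' (rM F (pre_mono g inf_le_right) (∑ l, b l • uS g sharp Q (q l))) := by
    rw [gM_rM, gM_rM]
    exact hb.symm
  obtain ⟨V2, l2, hx2, e2⟩ := exists_res_eq F hx' e
  obtain ⟨W2, hW2, hle2⟩ := exists_pre_le hg hx2
  let W3 := W2 ⊓ (W1 ⊓ W)
  refine ⟨W3, inf_le_right.trans (inf_le_right.trans lA), ⟨hW2, hW1, hW⟩,
    (pre_mono g (inf_le_right.trans inf_le_left)).trans (hle1.trans inf_le_left), n,
    fun l => rM Q (inf_le_right.trans inf_le_right) (q l),
    fun l => rO (pre_mono g (inf_le_right.trans inf_le_right)) (b l), fun l i => ?_, ?_⟩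
  · rw [← rO_rO lA (inf_le_right.trans inf_le_right), ← rM_smul, hq, map_zero]
  · have e3 := congrArg (rM F ((pre_mono g inf_le_left).trans hle2 : pre g W3 ≤ V2)) e2
    rw [rM_rM, rM_rM, rM_rM, rM_rM] at e3
    exact e3.trans (rM_comb g sharp Q (inf_le_right.trans inf_le_right : W3 ≤ W) q b)

include hg hflat in
/-- Flat inverse images of divisible modules are divisible for the pulled back functions. -/
theorem divAt_pull (Q : ModSite.Mod OY) {A : Opens Y} {r : ℕ} (f : Fin r → Fn OY A) (hQ : DivAt f Q) :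
    DivAt (fun i => shV g sharp A (f i)) ((mor g sharp).pull.obj Q) := by
  classical
  intro S j m
  obtain ⟨c, hc⟩ := hQ S j m
  refine ⟨c, fun n V lV s hs x hx => ?_⟩
  let e : Fin S.card ≃ S := S.equivFin.symm
  obtain ⟨W, lA, hW, lW, N, q, b, hq, hb⟩ := exists_killed_rep g sharp hg hflat Q
    (fun i => f (e i) ^ m) lV s (fun i => by rw [map_pow]; exact hs (e i) (e i).2) hx
  have hKS : ∀ l, KS f Q S m lA (q l) := fun l i hi => by
    have h1 := hq l (e.symm ⟨i, hi⟩)
    rwa [e.apply_symm_apply] at h1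
  choose W' l' hW' t' ht' hdiv using fun l => hc n W lA (q l) (hKS l) (g x) hW
  let W0 := W ⊓ (Finset.univ : Finset (Fin N)).inf W'
  have hW0 : g x ∈ W0 := ⟨hW,
    Finset.inf_induction (p := fun V : Opens Y => g x ∈ V) trivial (fun a ha b hb => ⟨ha, hb⟩) fun i _ => hW' i⟩
  have hle : ∀ l, W0 ≤ W' l := fun l => inf_le_right.trans (Finset.inf_le (Finset.mem_univ l))
  let k : pre g W0 ≤ pre g W := pre_mono g inf_le_left
  have esh : ∀ (a : Fn OY A), rO ((k.trans lW).trans lV) (shV g sharp A a) =
      shV g sharp W0 (rO (inf_le_left.trans lA) a) := fun a =>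
    (shV_rO g sharp (inf_le_left.trans lA) a).symm
  refine ⟨pre g W0, k.trans lW, hW0,
    ∑ l, rO k (b l) • uS g sharp Q (rM Q (hle l) (t' l)), fun i hi => ?_, ?_⟩
  · rw [← map_pow, esh, Finset.smul_sum]
    refine Finset.sum_eq_zero fun l _ => ?_
    rw [smul_comm, ← uS_smul, ← rO_rO ((l' l).trans lA) (hle l), ← rM_smul, ht' l i hi, map_zero,
      uS_zero, smul_zero]
  · rw [← map_pow, ← map_pow, esh, esh, ← rM_rM _ lW k, hb,
      show rM _ k (∑ l, b l • uS g sharp Q (q l)) = _ from rM_comb g sharp Q (inf_le_left : W0 ≤ W) q b,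
      Finset.smul_sum, Finset.smul_sum]
    refine Finset.sum_congr rfl fun l _ => ?_
    rw [smul_comm, ← uS_smul, smul_comm (shV g sharp W0 _), ← uS_smul]
    congr 2
    rw [← rO_rO ((l' l).trans lA) (hle l), ← rO_rO ((l' l).trans lA) (hle l) (f j ^ c), ← rM_smul, hdiv,
      rM_smul, rM_rM]

end Groth.Agent.H8FTors
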