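import Groth.Agent.H8FTors.Derived
import Groth.Agent.H13FTors.Kill

/-!
# The open ideals of a locally Noetherian formal scheme form a good family
-/

set_option autoImplicit false
set_option linter.style.haveILetI false
set_option linter.unusedSectionVars false
set_option backward.isDefEq.respectTransparency false

universe u

open CategoryTheory CategoryTheory.Limits TopologicalSpace Opposite AlgebraicGeometry

namespace Groth.Agent.H8FTors

open H15Site.ModTensor H15Site.ModRel H15Site.LocGen H24FMod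

attribute [local instance 10000] H15Site.SiteInst.hasSheafifySite H15Site.SiteInst.hasWeakSheafifySite

variable {𝔛 : FSch.Sys.{u}} (hL : 𝔛.IsLocNoethFormal)

theorem good_openIdealFam : Good (FTors.openIdealFam 𝔛 hL.1) := by
  intro x
  obtain ⟨A, hA, hxA, -⟩ := exists_isAffineOpen_mem_and_subset (x := x) (U := (⊤ : (𝔛.X 0).Opens)) trivial
  obtain ⟨J, hN, -, hJ⟩ := exists_adic hL hA
  haveI := hN
  obtain ⟨r, f, hf⟩ := Submodule.fg_iff_exists_fin_generating_family.1 (IsNoetherian.noetherian J)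
  refine ⟨A, hxA, r, f, ⟨fun n i => ⟨n + 1, ?_⟩, fun m => ?_⟩, colStab_of_flat ?_⟩
  · show f i ^ (n + 1) ∈ RingHom.ker (oP hL.1 n A)
    rw [hJ]
    exact Ideal.pow_mem_pow (hf ▸ Submodule.subset_span ⟨i, rfl⟩) _
  · have hsub : ∃ N, J ^ N ≤ spanS f Finset.univ m (le_refl A) := by
      refine Ideal.exists_pow_le_of_le_radical_of_fg ?_ (IsNoetherian.noetherian J)
      rw [← hf, Submodule.span_le]
      rintro _ ⟨i, rfl⟩
      exact ⟨m, Ideal.subset_span ⟨i, Finset.mem_coe.2 (Finset.mem_univ i),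
        rO_refl (O := 𝔛.Osh hL.1) (le_refl A) (f i ^ m)⟩⟩
    obtain ⟨N, hN'⟩ := hsub
    refine ⟨N, fun W l a ha x hx => ?_⟩
    obtain ⟨D, hD, hxD, hDW⟩ := exists_isAffineOpen_mem_and_subset (x := x) (U := W) hx
    refine ⟨D, hDW, hxD, ?_⟩
    have h1 : rO hDW a ∈ H13FTors.kI hL N D :=
      (FTors.openIdealFam 𝔛 hL.1).map_mem N (homOfLE hDW) ha
    rw [← H13FTors.map_kI hL hA hD (homOfLE (show D ≤ A from hDW.trans l)) N] at h1
    refine (Ideal.map_le_iff_le_comap.2 fun b hb => ?_) h1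
    rw [Ideal.mem_comap]
    refine rO_mem_spanS (le_refl A) (show D ≤ A from hDW.trans l) (hN' ?_)
    rw [H13FTors.kI, hJ] at hb
    exact Ideal.pow_le_pow_right (Nat.le_succ N) hb
  · intro W l y hy
    obtain ⟨D, hD, hyD, hDW⟩ := exists_isAffineOpen_mem_and_subset (x := y) (U := W) hy
    exact ⟨D, hDW, hyD, hDW.trans l, H24FMod.flat_rsO hL hA hD (homOfLE (show D ≤ A from hDW.trans l))⟩

end Groth.Agent.H8FTors
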