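import Groth.Agent.H8FTors.Open
import Mathlib.Algebra.Category.ModuleCat.Stalk
import Mathlib.Topology.Sheaves.Stalks
import Mathlib.Topology.Sheaves.SheafCondition.UniqueGluing

/-!
# Germs of sections of modules on a ringed space
-/

set_option autoImplicit false
set_option linter.style.haveILetI false
set_option linter.unusedSectionVars false
set_option backward.isDefEq.respectTransparency false

universe u

open CategoryTheory CategoryTheory.Limits TopologicalSpace Opposite

namespace Groth.Agent.H8FTors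

open H15Site.ModTensor H15Site.ModRel

attribute [local instance 10000] H15Site.SiteInst.hasSheafifySite H15Site.SiteInst.hasWeakSheafifySite

variable {X : TopCat.{u}} {O : Sheaf (Opens.grothendieckTopology X) CommRingCat.{u}}

/-- The stalk of the structure sheaf. -/
noncomputable abbrev RSt (O : Sheaf (Opens.grothendieckTopology X) CommRingCat.{u}) (x : X) : CommRingCat.{u} :=
  TopCat.Presheaf.stalk (C := CommRingCat.{u}) O.obj x

/-- The stalk of a module. -/
noncomputable abbrev MSt (M : ModSite.Mod O) (x : X) : AddCommGrpCat.{u} :=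
  TopCat.Presheaf.stalk (C := AddCommGrpCat.{u}) ((forg O).obj M).presheaf x

noncomputable instance moduleMSt (M : ModSite.Mod O) (x : X) : Module (RSt O x) (MSt M x) :=
  inferInstanceAs (Module ((TopCat.Presheaf.stalk (C := CommRingCat.{u}) O.obj x : CommRingCat.{u}) : Type u)
    (TopCat.Presheaf.stalk (C := AddCommGrpCat.{u})
      ((show PresheafOfModules.{u} (O.obj ⋙ forget₂ CommRingCat.{u} RingCat.{u}) from M.val)).presheaf x))

/-- The germ of a function. -/
noncomputable def gR {x : X} {V : Opens X} (hx : x ∈ V) : Fn O V →+* RSt O x :=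
  (TopCat.Presheaf.germ (C := CommRingCat.{u}) O.obj V x hx).hom

/-- The germ of a section. -/
noncomputable def gM (M : ModSite.Mod O) {x : X} {V : Opens X} (hx : x ∈ V) : Sct M V →+ MSt M x :=
  (TopCat.Presheaf.germ (C := AddCommGrpCat.{u}) ((forg O).obj M).presheaf V x hx).hom

theorem gR_rO {x : X} {V W : Opens X} (l : W ≤ V) (hx : x ∈ W) (a : Fn O V) :
    gR hx (rO l a) = gR (O := O) (l hx) a :=
  TopCat.Presheaf.germ_res_apply (C := CommRingCat.{u}) O.obj (homOfLE l) x hx a

theorem gM_rM (M : ModSite.Mod O) {x : X} {V W : Opens X} (l : W ≤ V) (hx : x ∈ W) (s : Sct M V) :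
    gM M hx (rM M l s) = gM M (l hx) s :=
  TopCat.Presheaf.germ_res_apply (C := AddCommGrpCat.{u}) ((forg O).obj M).presheaf (homOfLE l) x hx s

theorem gM_smul (M : ModSite.Mod O) {x : X} {V : Opens X} (hx : x ∈ V) (a : Fn O V) (s : Sct M V) :
    gM M hx (a • s) = gR hx a • gM M hx s :=
  PresheafOfModules.germ_smul (R := O.obj)
    (show PresheafOfModules.{u} (O.obj ⋙ forget₂ CommRingCat.{u} RingCat.{u}) from M.val) x V hx a s

theorem exists_gM (M : ModSite.Mod O) {x : X} {U : Opens X} (hU : x ∈ U) (t : MSt M x) :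
    ∃ (W : Opens X) (_ : W ≤ U) (hx : x ∈ W) (s : Sct M W), gM M hx s = t := by
  obtain ⟨V, hV, s, rfl⟩ :=
    TopCat.Presheaf.exists_germ_eq (C := AddCommGrpCat.{u}) ((forg O).obj M).presheaf t
  exact ⟨V ⊓ U, inf_le_right, ⟨hV, hU⟩, rM M inf_le_left s, gM_rM M inf_le_left ⟨hV, hU⟩ s⟩

theorem exists_gR {x : X} {U : Opens X} (hU : x ∈ U) (t : RSt O x) :
    ∃ (W : Opens X) (_ : W ≤ U) (hx : x ∈ W) (a : Fn O W), gR hx a = t := by
  obtain ⟨V, hV, a, rfl⟩ := TopCat.Presheaf.exists_germ_eq (C := CommRingCat.{u}) O.obj t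
  exact ⟨V ⊓ U, inf_le_right, ⟨hV, hU⟩, rO inf_le_left a, gR_rO inf_le_left ⟨hV, hU⟩ a⟩

theorem exists_res_eq (M : ModSite.Mod O) {x : X} {V : Opens X} (hx : x ∈ V) {s t : Sct M V}
    (h : gM M hx s = gM M hx t) :
    ∃ (W : Opens X) (l : W ≤ V) (_ : x ∈ W), rM M l s = rM M l t := by
  obtain ⟨W, hW, i, j, e⟩ :=
    TopCat.Presheaf.germ_eq (C := AddCommGrpCat.{u}) ((forg O).obj M).presheaf x hx hx s t h
  exact ⟨W, leOfHom i, hW, e.trans (congrArg (fun q : W ⟶ V => rs ((forg O).obj M) q.op t) (Subsingleton.elim _ _))⟩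

theorem eq_of_gM (M : ModSite.Mod O) {V : Opens X} {s t : Sct M V}
    (h : ∀ (x : X) (hx : x ∈ V), gM M hx s = gM M hx t) : s = t :=
  sct_ext M s t fun x hx => by
    obtain ⟨W, l, hxW, e⟩ := exists_res_eq M hx (h x hx)
    exact ⟨W, l, hxW, e⟩

/-- The map on stalks. -/
noncomputable def apSt {M N : ModSite.Mod O} (φ : M ⟶ N) (x : X) : MSt M x →+ MSt N x :=
  ((TopCat.Presheaf.stalkFunctor AddCommGrpCat.{u} x).map
    ((PresheafOfModules.toPresheaf _).map ((forg O).map φ))).hom

theorem apSt_gM {M N : ModSite.Mod O} (φ : M ⟶ N) {x : X} {V : Opens X} (hx : x ∈ V) (s : Sct M V) :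
    apSt φ x (gM M hx s) = gM N hx (ap φ V s) :=
  TopCat.Presheaf.stalkFunctor_map_germ_apply (C := AddCommGrpCat.{u}) V x hx
    ((PresheafOfModules.toPresheaf _).map ((forg O).map φ)) s

theorem exists_gM_pair (M : ModSite.Mod O) (x : X) (r : RSt O x) (m : MSt M x) :
    ∃ (V : Opens X) (hx : x ∈ V) (a : Fn O V) (s : Sct M V), gR hx a = r ∧ gM M hx s = m := by
  obtain ⟨U, -, hU, a, rfl⟩ := exists_gR (U := ⊤) (x := x) trivial r
  obtain ⟨V, l, hV, s, rfl⟩ := exists_gM M hU m
  exact ⟨V, hV, rO l a, s, gR_rO l hV a, rfl⟩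

/-- The linear map on stalks. -/
noncomputable def apStL {M N : ModSite.Mod O} (φ : M ⟶ N) (x : X) : MSt M x →ₗ[RSt O x] MSt N x where
  toFun := apSt φ x
  map_add' := map_add _
  map_smul' r m := by
    obtain ⟨V, hx, a, s, rfl, rfl⟩ := exists_gM_pair M x r m
    rw [← gM_smul, apSt_gM, map_smul, gM_smul, RingHom.id_apply, apSt_gM]

theorem apStL_gM {M N : ModSite.Mod O} (φ : M ⟶ N) {x : X} {V : Opens X} (hx : x ∈ V) (s : Sct M V) :
    apStL φ x (gM M hx s) = gM N hx (ap φ V s) :=
  apSt_gM φ hx s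

/-! ### Skyscraper modules -/

section Sky

variable (x : X) (N : Type u) [AddCommGroup N]

/-- Sections of the skyscraper. -/
noncomputable def skyPre : (Opens X)ᵒᵖ ⥤ AddCommGrpCat.{u} where
  obj U := AddCommGrpCat.of (ULift.{u} (PLift (x ∈ U.unop)) → N)
  map {U V} i := AddCommGrpCat.ofHom
    { toFun := fun g h => g ⟨⟨i.unop.le h.down.down⟩⟩
      map_zero' := rfl
      map_add' := fun _ _ => rfl }

variable [Module (RSt O x) N]

noncomputable instance skyModule (U : (Opens X)ᵒᵖ) :
    Module ((O.obj ⋙ forget₂ CommRingCat.{u} RingCat.{u}).obj U) ((skyPre x N).obj U) where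
  smul r g := fun h => gR h.down.down (show Fn O U.unop from r) • (g h : N)
  one_smul g := funext fun h => by
    show gR h.down.down (1 : Fn O U.unop) • (g h : N) = g h
    rw [map_one, one_smul]
  mul_smul r s g := funext fun h => by
    show gR h.down.down ((show Fn O U.unop from r) * (show Fn O U.unop from s)) • (g h : N) = _
    rw [map_mul, mul_smul]
    rfl
  smul_zero r := funext fun h => smul_zero _
  smul_add r g g' := funext fun h => smul_add _ _ _
  add_smul r s g := funext fun h => by
    show gR h.down.down ((show Fn O U.unop from r) + (show Fn O U.unop from s)) • (g h : N) = _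
    rw [map_add, add_smul]
    rfl
  zero_smul g := funext fun h => by
    show gR h.down.down (0 : Fn O U.unop) • (g h : N) = _
    rw [map_zero, zero_smul]
    rfl

variable (O) in
/-- The skyscraper module. -/
noncomputable def sky : ModSite.Mod O where
  val := PresheafOfModules.ofPresheaf (R := O.obj ⋙ forget₂ CommRingCat.{u} RingCat.{u}) (skyPre x N)
    fun U V i r g => by
      funext h
      show gR (i.unop.le h.down.down) (show Fn O U.unop from r) • (g _ : N) = gR h.down.down (rO i.unop.le (show Fn O U.unop from r)) • (g _ : N)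
      rw [gR_rO]
  isSheaf := by
    change TopCat.Presheaf.IsSheaf (skyPre x N : TopCat.Presheaf AddCommGrpCat.{u} X)
    rw [TopCat.Presheaf.isSheaf_iff_isSheafUniqueGluing]
    intro ι U sf hsf
    refine ⟨fun h => sf _ ⟨⟨(Opens.mem_iSup.mp h.down.down).choose_spec⟩⟩, fun i => ?_, fun s hs => ?_⟩
    · funext h
      exact congrFun (hsf (Opens.mem_iSup.mp (Opens.mem_iSup.mpr ⟨i, h.down.down⟩)).choose i)
        ⟨⟨(Opens.mem_iSup.mp (Opens.mem_iSup.mpr ⟨i, h.down.down⟩)).choose_spec, h.down.down⟩⟩
    · funext h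
      exact congrFun (hs _) ⟨⟨(Opens.mem_iSup.mp h.down.down).choose_spec⟩⟩

/-- The value at the point of a section of the skyscraper. -/
noncomputable def skyEval {U : Opens X} (h : x ∈ U) : Sct (sky O x N) U →+ N where
  toFun g := g ⟨⟨h⟩⟩
  map_zero' := rfl
  map_add' _ _ := rfl

theorem skyEval_smul {U : Opens X} (h : x ∈ U) (a : Fn O U) (g : Sct (sky O x N) U) :
    skyEval x N h (a • g) = gR h a • skyEval x N h g := rfl

theorem skyEval_rM {U V : Opens X} (l : V ≤ U) (h : x ∈ V) (g : Sct (sky O x N) U) :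
    skyEval x N h (rM (sky O x N) l g) = skyEval x N (l h) g := rfl

theorem sky_ext {U : Opens X} {g g' : Sct (sky O x N) U}
    (h : ∀ hx : x ∈ U, skyEval x N hx g = skyEval x N hx g') : g = g' :=
  funext fun hx => h hx.down.down

variable {x N}

/-- A linear map on the stalk gives a map to the skyscraper. -/
noncomputable def homOfStalk {F : ModSite.Mod O} (ψ : MSt F x →ₗ[RSt O x] N) : F ⟶ sky O x N where
  val := PresheafOfModules.homMk
    { app := fun U => AddCommGrpCat.ofHom
        { toFun := fun a (h : ULift.{u} (PLift (x ∈ U.unop))) => ψ (gM F h.down.down a)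
          map_zero' := funext fun h => (congrArg ψ (map_zero (gM F h.down.down))).trans (map_zero ψ)
          map_add' := fun a b => funext fun h =>
            (congrArg ψ (map_add (gM F h.down.down) a b)).trans (map_add ψ _ _) }
      naturality := fun U V i => by
        ext a
        funext h
        exact congrArg ψ (gM_rM F i.unop.le h.down.down a) }
    fun U r a => funext fun h => by
      show ψ (gM F h.down.down ((show Fn O U.unop from r) • (show Sct F U.unop from a))) = _
      rw [gM_smul, map_smul]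
      rfl

theorem skyEval_homOfStalk {F : ModSite.Mod O} (ψ : MSt F x →ₗ[RSt O x] N) {U : Opens X} (h : x ∈ U)
    (a : Sct F U) : skyEval x N h (ap (homOfStalk ψ) U a) = ψ (gM F h a) := rfl

/-- Stalkwise injectivity of a map to a skyscraper is evaluation. -/
theorem skyEval_congr {F : ModSite.Mod O} (φ : F ⟶ sky O x N) {U V : Opens X} (hU : x ∈ U) (hV : x ∈ V)
    (a : Sct F U) (b : Sct F V) (h : gM F hU a = gM F hV b) :
    skyEval x N hU (ap φ U a) = skyEval x N hV (ap φ V b) := by
  have hUV : x ∈ U ⊓ V := ⟨hU, hV⟩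
  have h0 : gM F hUV (rM F inf_le_left a) = gM F hUV (rM F inf_le_right b) := by
    rw [gM_rM, gM_rM]
    exact h
  obtain ⟨W, l, hW, e⟩ := exists_res_eq F _ h0
  rw [rM_rM, rM_rM] at e
  have h1 := congrArg (fun s => skyEval x N hW (ap φ W s)) e
  simp only [← rM_ap, skyEval_rM] at h1
  exact h1

end Sky

end Groth.Agent.H8FTors
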