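import Groth.Agent.H8FTors.Open
import Mathlib.Algebra.Category.ModuleCat.Presheaf.Submodule
import Mathlib.Algebra.Category.ModuleCat.Sheaf.PushforwardContinuous

/-!
# Injective modules are divisible modulo torsion
-/

set_option autoImplicit false
set_option linter.style.haveILetI false
set_option linter.unusedSectionVars false
set_option backward.isDefEq.respectTransparency false

universe u

open CategoryTheory CategoryTheory.Limits TopologicalSpace Opposite

namespace Groth.Agent.H8FTors

open H15Site.ModTensor H15Site.ModRel H15Site.LocGen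

attribute [local instance 10000] H15Site.SiteInst.hasSheafifySite H15Site.SiteInst.hasWeakSheafifySite

variable {T : Type u} [TopologicalSpace T] {O : Sheaf (Opens.grothendieckTopology T) CommRingCat.{u}}
  {A : Opens T} {r : ℕ} (f : Fin r → Fn O A)

/-- The ideal of powers of some members, over an open below `A`. -/
noncomputable def spanS (S : Finset (Fin r)) (m : ℕ) {W : Opens T} (l : W ≤ A) : Ideal (Fn O W) :=
  Ideal.span ((fun i => rO l (f i ^ m)) '' S)

/-- Colon ideals of powers of one member stabilise, uniformly in the open. -/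
def ColStab : Prop :=
  ∀ (S : Finset (Fin r)) (j : Fin r) (m : ℕ), ∃ c : ℕ, ∀ (n : ℕ) (W : Opens T) (l : W ≤ A) (a : Fn O W),
    a * rO l (f j ^ (n + c)) ∈ spanS f S m l → ∀ x ∈ W, ∃ (W' : Opens T) (l' : W' ≤ W) (_ : x ∈ W'),
      rO l' a * rO (l'.trans l) (f j ^ c) ∈ spanS f S m (l'.trans l)

variable {f}

theorem rO_mem_spanS {S : Finset (Fin r)} {m : ℕ} {W W' : Opens T} (l : W ≤ A) (k : W' ≤ W) {a : Fn O W}
    (ha : a ∈ spanS f S m l) : rO k a ∈ spanS f S m (k.trans l) := by
  have h := Ideal.mem_map_of_mem (rO (O := O) k) ha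
  rw [spanS, Ideal.map_span, ← Set.image_comp] at h
  rwa [spanS, ← Set.image_congr fun i _ => rO_rO l k (f i ^ m)]

theorem smul_eq_zero_of_mem_spanS {M : ModSite.Mod O} {S : Finset (Fin r)} {m : ℕ} {W : Opens T}
    {l : W ≤ A} {s : Sct M W} (hs : KS f M S m l s) {a : Fn O W} (ha : a ∈ spanS f S m l) : a • s = 0 := by
  induction ha using Submodule.span_induction with
  | mem x hx =>
    obtain ⟨i, hi, rfl⟩ := hx
    exact hs i hi
  | zero => exact zero_smul _ _
  | add x y _ _ hx hy => rw [add_smul, hx, hy, add_zero]
  | smul c x _ hx => rw [smul_assoc, hx, smul_zero]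

theorem divAt_of_injective (hf : ColStab f) (Q : ModSite.Mod O) [Injective Q] : DivAt f Q := by
  classical
  intro S j m
  obtain ⟨c, hc⟩ := hf S j m
  refine ⟨c, fun n W l s hs x hx => ?_⟩
  let I' : PMod O := (forg O).obj Q
  haveI : (aSh O).PreservesMonomorphisms :=
    haveI : PreservesFiniteLimits (aSh O) := inferInstance
    preservesMonomorphisms_of_preservesLimitsOfShape _
  haveI : Injective I' := Injective.injective_of_adjoint (adj O) Q
  let E : PMod O := (forg O).obj (ModSite.unit O)
  have hE : ∀ {V V' : Opens T} (i : op V ⟶ op V') (a : Fn O V),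
      (show Fn O V' from E.map i a) = rO (leOfHom i.unop) a := fun _ _ => rfl
  let P : ∀ V : Opens T, Fn O V → Prop := fun V a => ∀ h : V ≤ W,
    ∃ b : Fn O V, a - b * rO (h.trans l) (f j ^ (n + c)) ∈ spanS f S m (h.trans l)
  let N : E.Submodule :=
    { obj := fun V =>
        { carrier := {a | (¬ V.unop ≤ W → a = 0) ∧ P V.unop a}
          zero_mem' := ⟨fun _ => rfl, fun h => ⟨0, by
            show (0 : Fn O V.unop) - _ ∈ _
            rw [zero_mul, sub_zero]; exact zero_mem _⟩⟩
          add_mem' := fun {a a'} ha ha' => ⟨fun h => by rw [ha.1 h, ha'.1 h, add_zero], fun h => by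
            obtain ⟨b, hb⟩ := ha.2 h
            obtain ⟨b', hb'⟩ := ha'.2 h
            refine ⟨b + b', ?_⟩
            show (show Fn O V.unop from a) + (show Fn O V.unop from a') - _ ∈ _
            rw [add_mul, add_sub_add_comm]
            exact add_mem hb hb'⟩
          smul_mem' := fun e a ha => ⟨fun h => by rw [ha.1 h, smul_zero], fun h => by
            obtain ⟨b, hb⟩ := ha.2 h
            refine ⟨(show Fn O V.unop from e) * b, ?_⟩
            show (show Fn O V.unop from e) * (show Fn O V.unop from a) - _ ∈ _
            rw [mul_assoc, ← mul_sub]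
            exact Ideal.mul_mem_left _ _ hb⟩ }
      map := fun {V V'} i a ha => by
        refine ⟨fun h => ?_, fun h => ?_⟩
        · by_cases hV : V.unop ≤ W
          · exact absurd ((leOfHom i.unop).trans hV) h
          · show E.map i a = 0
            rw [ha.1 hV]
            exact map_zero (E.map i).hom
        · by_cases hV : V.unop ≤ W
          · obtain ⟨b, hb⟩ := ha.2 hV
            refine ⟨rO (leOfHom i.unop) b, ?_⟩
            have h1 := rO_mem_spanS (hV.trans l) (leOfHom i.unop) hb
            rw [map_sub, map_mul, rO_rO] at h1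
            exact h1
          · refine ⟨0, ?_⟩
            show (show Fn O V'.unop from E.map i a) - _ ∈ _
            rw [hE i a, show (a : Fn O V.unop) = 0 from ha.1 hV, map_zero, zero_mul, sub_zero]
            exact zero_mem _ }
  let L : E.Submodule :=
    { obj := fun V =>
        { carrier := {a | ¬ V.unop ≤ W → a = 0}
          zero_mem' := fun _ => rfl
          add_mem' := fun {a a'} ha ha' h => by rw [ha h, ha' h, add_zero]
          smul_mem' := fun e a ha h => by rw [ha h, smul_zero] }
      map := fun {V V'} i a ha h => by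
        show E.map i a = 0
        by_cases hV : V.unop ≤ W
        · exact absurd ((leOfHom i.unop).trans hV) h
        · rw [ha hV]
          exact map_zero (E.map i).hom }
  have hNL : N ≤ L := fun V a ha => ha.1
  let Rel : ∀ (V : Opens T), V ≤ W → Fn O V → Sct Q V → Prop := fun V h a y =>
    ∃ b : Fn O V, a - b * rO (h.trans l) (f j ^ (n + c)) ∈ spanS f S m (h.trans l) ∧
      y = (b * rO (h.trans l) (f j ^ c)) • rM Q h s
  have huniq : ∀ {V : Opens T} (h : V ≤ W) {a : Fn O V} {y y' : Sct Q V}, Rel V h a y → Rel V h a y' → y = y' := by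
    rintro V h a y y' ⟨b, hb, rfl⟩ ⟨b', hb', rfl⟩
    have h1 : (b - b') * rO (h.trans l) (f j ^ (n + c)) ∈ spanS f S m (h.trans l) := by
      have := sub_mem hb' hb
      rwa [sub_sub_sub_cancel_left, ← sub_mul] at this
    refine sub_eq_zero.1 (sct_ext Q _ 0 fun z hz => ?_)
    obtain ⟨V', k, hzV, hmem⟩ := hc n V (h.trans l) _ h1 z hz
    refine ⟨V', k, hzV, ?_⟩
    rw [map_zero, ← sub_smul, ← sub_mul, rM_smul, map_mul, rO_rO, rM_rM]
    exact smul_eq_zero_of_mem_spanS (hs.rM (k.trans h)) hmem
  have hrel : ∀ (V : Opens T) (h : V ≤ W) (a : N.obj (op V)), ∃ y, Rel V h (show Fn O V from a.1) y :=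
    fun V h a => by
      obtain ⟨b, hb⟩ := a.2.2 h
      exact ⟨_, b, hb, rfl⟩
  choose val hval using hrel
  let g : ∀ V : (Opens T)ᵒᵖ, N.obj V → Sct Q V.unop := fun V a =>
    if h : V.unop ≤ W then val V.unop h a else 0
  have gpos : ∀ (V : (Opens T)ᵒᵖ) (h : V.unop ≤ W) (a : N.obj V) (y : Sct Q V.unop),
      Rel V.unop h (show Fn O V.unop from a.1) y → g V a = y := fun V h a y hy => by
    simp only [g, dif_pos h]
    exact huniq h (hval _ h a) hy
  let φ : N.toPresheafOfModules ⟶ I' := PresheafOfModules.homMk
    { app := fun V => AddCommGrpCat.ofHom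
        { toFun := g V
          map_zero' := by
            by_cases h : V.unop ≤ W
            · refine gpos V h 0 0 ⟨0, ?_, ?_⟩
              · show (0 : Fn O V.unop) - _ ∈ _
                rw [zero_mul, sub_zero]; exact zero_mem _
              · rw [zero_mul, zero_smul]
            · simp only [g, dif_neg h]
          map_add' := fun a a' => by
            by_cases h : V.unop ≤ W
            · obtain ⟨b, hb, hy⟩ := hval _ h a
              obtain ⟨b', hb', hy'⟩ := hval _ h a'
              rw [gpos V h a _ ⟨b, hb, rfl⟩, gpos V h a' _ ⟨b', hb', rfl⟩]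
              refine gpos V h _ _ ⟨b + b', ?_, ?_⟩
              · show (show Fn O V.unop from a.1) + (show Fn O V.unop from a'.1) - _ ∈ _
                rw [add_mul, add_sub_add_comm]
                exact add_mem hb hb'
              · rw [add_mul, add_smul]
            · simp only [g, dif_neg h]
              exact (add_zero _).symm }
      naturality := fun V V' i => by
        ext a
        by_cases h : V.unop ≤ W
        · obtain ⟨b, hb, hy⟩ := hval _ h a
          have h' := (leOfHom i.unop).trans h
          refine (gpos V' h' _ (rM Q (leOfHom i.unop) (g V a)) ⟨rO (leOfHom i.unop) b, ?_, ?_⟩).trans rfl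
          · have h1 := rO_mem_spanS (h.trans l) (leOfHom i.unop) hb
            rw [map_sub, map_mul, rO_rO] at h1
            exact h1
          · rw [gpos V h a _ ⟨b, hb, rfl⟩, rM_smul, map_mul, rO_rO, rM_rM]
        · have e : g V a = 0 := by simp only [g, dif_neg h]
          have e' : a.1 = 0 := a.2.1 h
          refine Eq.trans ?_ ((congrArg (rM Q (leOfHom i.unop)) e).trans (map_zero _)).symm
          by_cases h' : V'.unop ≤ W
          · refine gpos V' h' _ 0 ⟨0, ?_, ?_⟩
            · rw [zero_mul, sub_zero]
              show rO (leOfHom i.unop) (show Fn O V.unop from a.1) ∈ _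
              rw [show (a.1 : Fn O V.unop) = 0 from e', map_zero]
              exact zero_mem _
            · rw [zero_mul, zero_smul]
          · exact dif_neg h' }
    fun V e a => by
      by_cases h : V.unop ≤ W
      · obtain ⟨b, hb, hy⟩ := hval _ h a
        show g V (e • a) = (show Fn O V.unop from e) • g V a
        rw [gpos V h a _ ⟨b, hb, rfl⟩]
        refine gpos V h _ _ ⟨(show Fn O V.unop from e) * b, ?_, ?_⟩
        · show (show Fn O V.unop from e) * (show Fn O V.unop from a.1) - _ ∈ _
          rw [mul_assoc, ← mul_sub]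
          exact Ideal.mul_mem_left _ _ hb
        · rw [smul_smul, mul_assoc]
      · show g V (e • a) = (show Fn O V.unop from e) • g V a
        simp only [g, dif_neg h, smul_zero]
  let ψ : L.toPresheafOfModules ⟶ I' := Injective.factorThru φ (PresheafOfModules.Submodule.homOfLE hNL)
  have hψ : PresheafOfModules.Submodule.homOfLE hNL ≫ ψ = φ := Injective.comp_factorThru _ _
  let one : L.obj (op W) := ⟨(1 : Fn O W), fun h => absurd le_rfl h⟩
  let t : Sct Q W := (ψ.app (op W)).hom one
  have key : ∀ (a : N.obj (op W)) (y : Sct Q W), Rel W le_rfl (show Fn O W from a.1) y →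
      (show Fn O W from a.1) • t = y := fun a y hy => by
    refine ((ψ.app (op W)).hom.map_smul (show Fn O W from a.1) one).symm.trans ?_
    have e1 : (show Fn O W from a.1) • one = ((PresheafOfModules.Submodule.homOfLE hNL).app (op W)).hom a :=
      Subtype.ext (mul_one (show Fn O W from a.1))
    refine Eq.trans (congrArg (ψ.app (op W)).hom e1) (Eq.trans ?_ (gpos (op W) le_rfl a y hy))
    exact congrArg (fun q : N.toPresheafOfModules ⟶ I' => (q.app (op W)).hom a) hψ
  refine ⟨W, le_rfl, hx, t, fun i hi => ?_, ?_⟩
  · have hmem : rO l (f i ^ m) ∈ spanS f S m l := Ideal.subset_span ⟨i, hi, rfl⟩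
    refine (key ⟨rO l (f i ^ m), fun h => absurd le_rfl h, fun h => ⟨0, ?_⟩⟩ 0 ⟨0, ?_, ?_⟩)
    · rw [zero_mul, sub_zero]; exact hmem
    · rw [zero_mul, sub_zero]; exact hmem
    · rw [zero_mul, zero_smul]
  · refine key ⟨rO l (f j ^ (n + c)), fun h => absurd le_rfl h, fun h => ⟨1, ?_⟩⟩ _ ⟨1, ?_, ?_⟩
    · rw [one_mul, sub_self]; exact zero_mem _
    · rw [one_mul, sub_self]; exact zero_mem _
    · rw [one_mul]

end Groth.Agent.H8FTors
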