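import Groth.Agent.H15Site.LocGen
import Groth.Agent.H24FMod.Kernel
import Groth.Prelude.Def_FTors2

/-!
# Sections of modules over opens of a ringed space; Koszul-type divisibility; torsion lifting
-/

set_option autoImplicit false
set_option linter.style.haveILetI false
set_option linter.unusedSectionVars false
set_option backward.isDefEq.respectTransparency false

universe u

open CategoryTheory CategoryTheory.Limits TopologicalSpace Opposite

namespace Groth.Agent.H8FTors

open H15Site.ModTensor H15Site.ModRel H15Site.LocGen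

attribute [local instance 10000] H15Site.SiteInst.hasSheafifySite H15Site.SiteInst.hasWeakSheafifySite

variable {T : Type u} [TopologicalSpace T] {O : Sheaf (Opens.grothendieckTopology T) CommRingCat.{u}}

/-- Sections of the structure sheaf over an open. -/
abbrev Fn (O : Sheaf (Opens.grothendieckTopology T) CommRingCat.{u}) (V : Opens T) : Type u :=
  O.obj.obj (op V)

/-- Sections of a module over an open. -/
abbrev Sct (M : ModSite.Mod O) (V : Opens T) : Type u := ((forg O).obj M).obj (op V)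

/-- Restriction of functions. -/
noncomputable def rO {V W : Opens T} (l : W ≤ V) : Fn O V →+* Fn O W :=
  (O.obj.map (homOfLE l).op).hom

/-- Restriction of sections. -/
noncomputable def rM (M : ModSite.Mod O) {V W : Opens T} (l : W ≤ V) : Sct M V →+ Sct M W where
  toFun := rs ((forg O).obj M) (homOfLE l).op
  map_zero' := rs_zero _ _
  map_add' := rs_add _ _

/-- The map on sections. -/
noncomputable def ap {M N : ModSite.Mod O} (φ : M ⟶ N) (V : Opens T) : Sct M V →ₗ[Fn O V] Sct N V :=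
  (φ.val.app (op V)).hom

theorem rO_rO {U V W : Opens T} (l : V ≤ U) (k : W ≤ V) (a : Fn O U) :
    rO k (rO l a) = rO (O := O) (k.trans l) a :=
  (rr_rr (O := O) (homOfLE l).op (homOfLE k).op a).trans rfl

theorem rO_refl {V : Opens T} (l : V ≤ V) (a : Fn O V) : rO (O := O) l a = a :=
  (congrArg (fun q => rr O q a) (Subsingleton.elim (homOfLE l).op (𝟙 _))).trans (rr_id a)

theorem rM_rM (M : ModSite.Mod O) {U V W : Opens T} (l : V ≤ U) (k : W ≤ V) (s : Sct M U) :
    rM M k (rM M l s) = rM M (k.trans l) s :=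
  (rs_rs _ (homOfLE l).op (homOfLE k).op s).trans rfl

theorem rM_refl (M : ModSite.Mod O) {V : Opens T} (l : V ≤ V) (s : Sct M V) : rM M l s = s :=
  (congrArg (fun q => rs ((forg O).obj M) q s) (Subsingleton.elim (homOfLE l).op (𝟙 _))).trans (rs_id _ s)

theorem rM_smul (M : ModSite.Mod O) {V W : Opens T} (l : W ≤ V) (a : Fn O V) (s : Sct M V) :
    rM M l (a • s) = rO l a • rM M l s :=
  rs_smul' _ (homOfLE l).op a s

theorem rM_ap {M N : ModSite.Mod O} (φ : M ⟶ N) {V W : Opens T} (l : W ≤ V) (s : Sct M V) :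
    rM N l (ap φ V s) = ap φ W (rM M l s) :=
  (rs_app φ.val (homOfLE l).op s).symm

theorem ap_comp {M N P : ModSite.Mod O} (φ : M ⟶ N) (ψ : N ⟶ P) (V : Opens T) (s : Sct M V) :
    ap ψ V (ap φ V s) = ap (φ ≫ ψ) V s := rfl

theorem ap_zero (M N : ModSite.Mod O) (V : Opens T) (s : Sct M V) : ap (0 : M ⟶ N) V s = 0 := rfl

/-- Sections agreeing near every point are equal. -/
theorem sct_ext (M : ModSite.Mod O) {V : Opens T} (s t : Sct M V)
    (h : ∀ x ∈ V, ∃ (W : Opens T) (l : W ≤ V), x ∈ W ∧ rM M l s = rM M l t) : s = t := by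
  refine separated_forg M (X := op V)
    ⟨fun W g => rM M (leOfHom g) s = rM M (leOfHom g) t, ?_⟩ ?_ s t fun W g hg => ?_
  · intro W W' g hg k
    show rM M _ s = rM M _ t
    rw [← rM_rM M (leOfHom g) (leOfHom k), ← rM_rM M (leOfHom g) (leOfHom k), hg]
  · intro x hx
    obtain ⟨W, l, hxW, e⟩ := h x hx
    exact ⟨W, homOfLE l, e, hxW⟩
  · exact hg

/-- Local surjectivity of epimorphisms. -/
theorem exists_lift {M N : ModSite.Mod O} (φ : M ⟶ N) [Epi φ] {V : Opens T} (t : Sct N V) {x : T}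
    (hx : x ∈ V) : ∃ (W : Opens T) (l : W ≤ V) (_ : x ∈ W) (s : Sct M W), ap φ W s = rM N l t := by
  obtain ⟨S, hS, hS'⟩ := (epi_iff_locSurj φ).1 inferInstance V t
  obtain ⟨W, g, hg, hxW⟩ := hS x hx
  obtain ⟨z, hz⟩ := hS' g hg
  exact ⟨W, leOfHom g, hxW, z, hz.trans rfl⟩

/-- A locally surjective morphism is an epimorphism. -/
theorem epi_of_lift {M N : ModSite.Mod O} (φ : M ⟶ N)
    (h : ∀ (V : Opens T) (t : Sct N V) (x : T), x ∈ V →
      ∃ (W : Opens T) (l : W ≤ V) (_ : x ∈ W) (s : Sct M W), ap φ W s = rM N l t) : Epi φ := by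
  refine (epi_iff_locSurj φ).2 fun V t =>
    ⟨⟨fun W g => ∃ s : Sct M W, ap φ W s = rM N (leOfHom g) t, ?_⟩, ?_, fun W g hg => hg⟩
  · rintro W W' g ⟨s, hs⟩ k
    refine ⟨rM M (leOfHom k) s, ?_⟩
    rw [← rM_ap, hs, rM_rM]
  · intro x hx
    obtain ⟨W, l, hxW, s, hs⟩ := h V t x hx
    exact ⟨W, homOfLE l, ⟨s, hs⟩, hxW⟩

/-- An injective map on sections gives a monomorphism. -/
theorem mono_of_ap {M N : ModSite.Mod O} (φ : M ⟶ N) (h : ∀ V, Function.Injective (ap φ V)) : Mono φ :=
  ⟨fun {Z} a b e => SheafOfModules.hom_ext (PresheafOfModules.hom_ext fun X => ModuleCat.hom_ext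
    (LinearMap.ext fun z => h X.unop (congrArg (fun q : Z ⟶ N => (q.val.app X).hom z) e)))⟩

theorem ap_injective {M N : ModSite.Mod O} (φ : M ⟶ N) [Mono φ] (V : Opens T) :
    Function.Injective (ap φ V) := by
  haveI := H15Site.ModOver.preservesMonomorphisms_forg (O := O)
  exact PresheafOfModules.injective_of_mono ((forg O).map φ) (op V)

/-- Kernel sections. -/
theorem exists_ker {M N : ModSite.Mod O} (φ : M ⟶ N) {V : Opens T} (s : Sct M V) (h : ap φ V s = 0) :
    ∃ y : Sct (kernel φ) V, ap (kernel.ι φ) V y = s :=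
  H24FMod.exists_kerSec φ (W := op V) s h

/-- Exactness from local liftings. -/
theorem exact_of_lift (S : ShortComplex (ModSite.Mod O))
    (h : ∀ (V : Opens T) (t : Sct S.X₂ V), ap S.g V t = 0 → ∀ x ∈ V,
      ∃ (W : Opens T) (l : W ≤ V) (_ : x ∈ W) (s : Sct S.X₁ W), ap S.f W s = rM S.X₂ l t) : S.Exact := by
  refine S.exact_iff_epi_kernel_lift.2 (epi_of_lift _ fun V y x hx => ?_)
  have hy : ap S.g V (ap (kernel.ι S.g) V y) = 0 := by
    rw [ap_comp, kernel.condition, ap_zero]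
  obtain ⟨W, l, hxW, s, hs⟩ := h V _ hy x hx
  refine ⟨W, l, hxW, s, ap_injective (kernel.ι S.g) W ?_⟩
  rw [ap_comp, kernel.lift_ι, hs, rM_ap]

/-- Local liftings from exactness. -/
theorem lift_of_exact (S : ShortComplex (ModSite.Mod O)) (hS : S.Exact) {V : Opens T} (t : Sct S.X₂ V)
    (ht : ap S.g V t = 0) {x : T} (hx : x ∈ V) :
    ∃ (W : Opens T) (l : W ≤ V) (_ : x ∈ W) (s : Sct S.X₁ W), ap S.f W s = rM S.X₂ l t := by
  haveI : Epi (kernel.lift S.g S.f S.zero) := S.exact_iff_epi_kernel_lift.1 hS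
  obtain ⟨y, hy⟩ := exists_ker S.g t ht
  obtain ⟨W, l, hxW, s, hs⟩ := exists_lift (kernel.lift S.g S.f S.zero) y hx
  refine ⟨W, l, hxW, s, ?_⟩
  rw [← hy, rM_ap, ← hs, ap_comp, kernel.lift_ι]

section Core

variable {A : Opens T} {r : ℕ} (f : Fin r → Fn O A)

/-- The section is killed by the `m`-th powers of the members of `S`. -/
def KS (M : ModSite.Mod O) (S : Finset (Fin r)) (m : ℕ) {W : Opens T} (l : W ≤ A) (s : Sct M W) : Prop :=
  ∀ i ∈ S, rO l (f i ^ m) • s = 0

/-- Divisibility by powers of one member, modulo torsion, on sections killed by powers of others. -/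
def DivAt (M : ModSite.Mod O) : Prop :=
  ∀ (S : Finset (Fin r)) (j : Fin r) (m : ℕ), ∃ c : ℕ, ∀ (n : ℕ) (W : Opens T) (l : W ≤ A) (s : Sct M W),
    KS f M S m l s → ∀ x ∈ W, ∃ (W' : Opens T) (l' : W' ≤ W) (_ : x ∈ W') (t : Sct M W'),
      KS f M S m (l'.trans l) t ∧
        rO (l'.trans l) (f j ^ (n + c)) • t = rO (l'.trans l) (f j ^ c) • rM M l' s

/-- The cohomology of the complex is torsion. -/
def HTor (C : CochainComplex (ModSite.Mod O) ℤ) : Prop :=
  ∀ (q p p' : ℤ), q + 1 = p → p + 1 = p' → ∀ (j : Fin r) (W : Opens T) (l : W ≤ A) (z : Sct (C.X p) W),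
    ap (C.d p p') W z = 0 → ∀ x ∈ W, ∃ (W' : Opens T) (l' : W' ≤ W) (_ : x ∈ W') (e : ℕ)
      (w : Sct (C.X q) W'), ap (C.d q p) W' w = rO (l'.trans l) (f j ^ e) • rM (C.X p) l' z

variable {f}

theorem KS.rM {M : ModSite.Mod O} {S : Finset (Fin r)} {m : ℕ} {W W' : Opens T} {l : W ≤ A}
    {s : Sct M W} (h : KS f M S m l s) (k : W' ≤ W) : KS f M S m (k.trans l) (H8FTors.rM M k s) := by
  intro i hi
  rw [← rO_rO l k, ← rM_smul, h i hi, map_zero]

theorem KS.mono {M : ModSite.Mod O} {S : Finset (Fin r)} {m m' : ℕ} (hm : m ≤ m') {W : Opens T} {l : W ≤ A}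
    {s : Sct M W} (h : KS f M S m l s) : KS f M S m' l s := by
  intro i hi
  rw [show f i ^ m' = f i ^ (m' - m) * f i ^ m by rw [← pow_add]; congr 1; omega, map_mul, mul_smul,
    h i hi, smul_zero]

theorem KS.sub {M : ModSite.Mod O} {S : Finset (Fin r)} {m : ℕ} {W : Opens T} {l : W ≤ A}
    {s t : Sct M W} (h : KS f M S m l s) (h' : KS f M S m l t) : KS f M S m l (s - t) := by
  intro i hi
  rw [smul_sub, h i hi, h' i hi, sub_zero]

theorem KS.ap {M N : ModSite.Mod O} {S : Finset (Fin r)} {m : ℕ} {W : Opens T} {l : W ≤ A}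
    {s : Sct M W} (h : KS f M S m l s) (φ : M ⟶ N) : KS f N S m l (H8FTors.ap φ W s) := by
  intro i hi
  rw [← map_smul, h i hi, map_zero]

/-- In a complex of divisible modules with torsion cohomology, sections with torsion differential are
torsion up to coboundaries. -/
theorem exists_sub_d (C : CochainComplex (ModSite.Mod O) ℤ) (hD : ∀ p, DivAt f (C.X p)) (hH : HTor f C)
    (S : Finset (Fin r)) : ∀ (q p p' : ℤ), q + 1 = p → p + 1 = p' → ∀ (W : Opens T) (l : W ≤ A)
      (y : Sct (C.X p) W) (m : ℕ), KS f (C.X p') S m l (ap (C.d p p') W y) → ∀ x ∈ W,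
      ∃ (W' : Opens T) (l' : W' ≤ W) (_ : x ∈ W') (t : Sct (C.X q) W') (m' : ℕ),
        KS f (C.X p) S m' (l'.trans l) (rM (C.X p) l' y - ap (C.d q p) W' t) := by
  classical
  induction S using Finset.induction with
  | empty =>
    intro q p p' _ _ W l y m _ x hx
    exact ⟨W, le_rfl, hx, 0, 0, fun i hi => absurd hi (Finset.notMem_empty i)⟩
  | @insert j S _ ih =>
    intro q p p' hq hp W l y m hy x hx
    obtain ⟨W1, l1, hx1, t1, m1, hy1⟩ :=
      ih q p p' hq hp W l y m (fun i hi => hy i (Finset.mem_insert_of_mem hi)) x hx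
    set y1 := rM (C.X p) l1 y - ap (C.d q p) W1 t1 with hy1def
    have hdy1 : ap (C.d p p') W1 y1 = rM (C.X p') l1 (ap (C.d p p') W y) := by
      rw [hy1def, map_sub, ap_comp, C.d_comp_d, ap_zero, sub_zero, rM_ap]
    have hz : ap (C.d p p') W1 (rO (l1.trans l) (f j ^ m) • y1) = 0 := by
      rw [map_smul, hdy1, ← rO_rO l l1, ← rM_smul, hy j (Finset.mem_insert_self j S), map_zero]
    obtain ⟨W2, l2, hx2, e, w, hw⟩ := hH q p p' hq hp j W1 (l1.trans l) _ hz x hx1
    have hdw : KS f (C.X p) S m1 ((l2.trans l1).trans l) (ap (C.d q p) W2 w) := by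
      intro i hi
      rw [hw, rM_smul, smul_comm (rO _ (f i ^ m1)), smul_comm (rO _ (f i ^ m1)), (hy1.rM l2) i hi,
        smul_zero, smul_zero]
    obtain ⟨W3, l3, hx3, t2, m2, hw'⟩ :=
      ih (q - 1) q p (by omega) hq W2 ((l2.trans l1).trans l) w m1 hdw x hx2
    set w' := rM (C.X q) l3 w - ap (C.d (q - 1) q) W3 t2 with hw'def
    obtain ⟨c, hc⟩ := hD q S j m2
    obtain ⟨W4, l4, hx4, t3, ht3, hdiv⟩ := hc (m + e) W3 _ w' hw' x hx3
    let k : W4 ≤ W1 := (l4.trans l3).trans l2
    refine ⟨W4, k.trans l1, hx4, rM (C.X q) k t1 + t3, max (max m1 m2) (m + e + c), ?_⟩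
    have key : rM (C.X p) (k.trans l1) y - ap (C.d q p) W4 (rM (C.X q) k t1 + t3) =
        rM (C.X p) k y1 - ap (C.d q p) W4 t3 := by
      rw [hy1def, map_sub, map_add, rM_rM, rM_ap, sub_sub]
    rw [key]
    intro i hi
    rcases Finset.mem_insert.1 hi with rfl | hi
    · have h1 : rO ((k.trans l1).trans l) (f i ^ (m + e + c)) • ap (C.d q p) W4 t3 =
          rO ((k.trans l1).trans l) (f i ^ c) • rM (C.X p) (l4.trans l3) (ap (C.d q p) W2 w) := by
        rw [← map_smul, hdiv, map_smul, hw'def, ← rM_ap, map_sub, ap_comp, C.d_comp_d, ap_zero,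
          sub_zero, ← rM_ap, rM_rM]
      have h2 : rO ((k.trans l1).trans l) (f i ^ (m + e + c)) •
          (rM (C.X p) k y1 - ap (C.d q p) W4 t3) = 0 := by
        rw [smul_sub, h1, hw, rM_smul, rM_rM, rM_smul, rO_rO, rO_rO, smul_smul, smul_smul, ← map_mul,
          ← map_mul, ← pow_add, ← pow_add, show c + e + m = m + e + c by omega, sub_self]
      rw [show f i ^ max (max m1 m2) (m + e + c) =
        f i ^ (max (max m1 m2) (m + e + c) - (m + e + c)) * f i ^ (m + e + c) by
          rw [← pow_add]; congr 1; omega, map_mul, mul_smul, h2, smul_zero]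
    · exact ((hy1.rM k).mono (le_max_of_le_left (le_max_left _ _))).sub
        ((ht3.ap (C.d q p)).mono (le_max_of_le_left (le_max_right _ _))) i hi

end Core

end Groth.Agent.H8FTors
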