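import Groth.Agent.H8FTors.Derived
import Groth.Prelude.Def_FTors3
import Mathlib.AlgebraicGeometry.Morphisms.Flat
import Mathlib.AlgebraicGeometry.Noetherian

/-!
# Powers of an ideal sheaf on a locally Noetherian scheme form a good family
-/

set_option autoImplicit false
set_option linter.style.haveILetI false
set_option linter.unusedSectionVars false
set_option backward.isDefEq.respectTransparency false

universe u

open CategoryTheory CategoryTheory.Limits TopologicalSpace Opposite AlgebraicGeometry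

namespace Groth.Agent.H8FTors

open H15Site.ModTensor H15Site.ModRel H15Site.LocGen

attribute [local instance 10000] H15Site.SiteInst.hasSheafifySite H15Site.SiteInst.hasWeakSheafifySite

variable {X : Scheme.{u}}

theorem flat_rO_affine {A D : X.Opens} (hA : IsAffineOpen A) (hD : IsAffineOpen D) (l : D ≤ A) :
    (rO (O := X.sheaf) l).Flat := by
  have h := Flat.flat_appLE (𝟙 X) (U := A) hA (V := D) hD (show D ≤ 𝟙 X ⁻¹ᵁ A from l)
  rw [Scheme.Hom.appLE, Scheme.Hom.id_app, Category.id_comp] at h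
  exact h

variable (X) in
theorem good_powIdealFam [IsLocallyNoetherian X] (𝓘 : X.IdealSheafData) : Good (FTors.powIdealFam X 𝓘) := by
  intro x
  obtain ⟨A, hA, hxA, -⟩ := exists_isAffineOpen_mem_and_subset (x := x) (U := (⊤ : X.Opens)) trivial
  haveI : IsNoetherianRing (Fn X.sheaf A) := IsLocallyNoetherian.component_noetherian ⟨A, hA⟩
  let I₀ : Ideal (Fn X.sheaf A) := 𝓘.ideal ⟨A, hA⟩
  obtain ⟨r, f, hf⟩ := Submodule.fg_iff_exists_fin_generating_family.1
    (IsNoetherian.noetherian (R := Fn X.sheaf A) (M := Fn X.sheaf A) I₀)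
  have hmap : ∀ {W : X.Opens} (hW : IsAffineOpen W) (l : W ≤ A) (N : ℕ),
      (I₀ ^ N).map (rO (O := X.sheaf) l) = (𝓘.ideal ⟨W, hW⟩) ^ N := fun {W} hW l N => by
    rw [Ideal.map_pow]
    exact congrArg (· ^ N) (𝓘.map_ideal (U := ⟨W, hW⟩) (V := ⟨A, hA⟩) l)
  refine ⟨A, hxA, r, f, ⟨fun n i => ⟨n, ?_⟩, fun m => ?_⟩, colStab_of_flat ?_⟩
  · refine (FTors.mem_powIdealFam_iff X 𝓘 n A _).2 fun W hW => ?_
    rw [← hmap W.2 hW n]
    exact Ideal.mem_map_of_mem _ (Ideal.pow_mem_pow (hf ▸ Submodule.subset_span ⟨i, rfl⟩) _)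
  · obtain ⟨N, hN⟩ : ∃ N, I₀ ^ N ≤ spanS f Finset.univ m (le_refl A) := by
      refine Ideal.exists_pow_le_of_le_radical_of_fg ?_ (IsNoetherian.noetherian _)
      rw [← hf, Submodule.span_le]
      rintro _ ⟨i, rfl⟩
      exact ⟨m, Ideal.subset_span ⟨i, Finset.mem_coe.2 (Finset.mem_univ i),
        rO_refl (O := X.sheaf) (le_refl A) (f i ^ m)⟩⟩
    refine ⟨N, fun W l a ha y hy => ?_⟩
    obtain ⟨D, hD, hyD, hDW⟩ := exists_isAffineOpen_mem_and_subset (x := y) (U := W) hy
    refine ⟨D, hDW, hyD, ?_⟩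
    have h1 := (FTors.mem_powIdealFam_iff X 𝓘 N W a).1 ha ⟨D, hD⟩ hDW
    rw [← hmap hD (show D ≤ A from hDW.trans l) N] at h1
    refine (Ideal.map_le_iff_le_comap.2 fun b hb => ?_) h1
    rw [Ideal.mem_comap]
    exact rO_mem_spanS (le_refl A) (show D ≤ A from hDW.trans l) (hN hb)
  · intro W l y hy
    obtain ⟨D, hD, hyD, hDW⟩ := exists_isAffineOpen_mem_and_subset (x := y) (U := W) hy
    exact ⟨D, hDW, hyD, hDW.trans l, flat_rO_affine hA hD _⟩

end Groth.Agent.H8FTors
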