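import Groth.Agent.H8FTors.Germ
import Groth.Prelude.Def_ModSite
import Mathlib.LinearAlgebra.TensorProduct.Tower
import Mathlib.RingTheory.TensorProduct.Basic

/-!
# Stalks of inverse images of modules along a morphism of ringed spaces
-/

set_option autoImplicit false
set_option linter.style.haveILetI false
set_option linter.unusedSectionVars false
set_option backward.isDefEq.respectTransparency false

universe u

open CategoryTheory CategoryTheory.Limits TopologicalSpace Opposite TensorProduct

namespace Groth.Agent.H8FTors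

open H15Site.ModTensor H15Site.ModRel

attribute [local instance 10000] H15Site.SiteInst.hasSheafifySite H15Site.SiteInst.hasWeakSheafifySite

variable {X Y : TopCat.{u}} {OX : Sheaf (Opens.grothendieckTopology X) CommRingCat.{u}}
  {OY : Sheaf (Opens.grothendieckTopology Y) CommRingCat.{u}} (g : X ⟶ Y)
  (sharp : OY ⟶ ((Opens.map g).sheafPushforwardContinuous CommRingCat.{u}
    (Opens.grothendieckTopology Y) (Opens.grothendieckTopology X)).obj OX)

/-- The morphism of ringed sites. -/
noncomputable abbrev mor : ModSite.RMor OX OY := ModSite.RMor.ofFlat (Opens.map g) sharp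

/-- Inverse image of an open. -/
abbrev pre (V : Opens Y) : Opens X := (Opens.map g).obj V

theorem pre_mono {V W : Opens Y} (l : W ≤ V) : pre g W ≤ pre g V := fun _ hx => l hx

/-- The map on functions. -/
noncomputable def shV (V : Opens Y) : Fn OY V →+* Fn OX (pre g V) := (sharp.hom.app (op V)).hom

theorem shV_rO {V W : Opens Y} (l : W ≤ V) (a : Fn OY V) :
    shV g sharp W (rO l a) = rO (pre_mono g l) (shV g sharp V a) :=
  congr($(sharp.hom.naturality (homOfLE l).op) a)

/-- The map on stalks. -/
noncomputable def shSt (x : X) : RSt OY (g x) →+* RSt OX x :=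
  ((TopCat.Presheaf.stalkFunctor CommRingCat.{u} (g x)).map sharp.hom ≫
    TopCat.Presheaf.stalkPushforward CommRingCat.{u} g OX.obj x).hom

theorem shSt_gR {x : X} {V : Opens Y} (h : g x ∈ V) (a : Fn OY V) :
    shSt g sharp x (gR h a) = gR (x := x) (V := pre g V) h (shV g sharp V a) := by
  show (TopCat.Presheaf.stalkPushforward CommRingCat.{u} g OX.obj x).hom
    ((TopCat.Presheaf.stalkFunctor CommRingCat.{u} (g x)).map sharp.hom
      (TopCat.Presheaf.germ (C := CommRingCat.{u}) OY.obj V (g x) h a)) = _
  refine (congrArg (TopCat.Presheaf.stalkPushforward CommRingCat.{u} g OX.obj x).hom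
    (TopCat.Presheaf.stalkFunctor_map_germ_apply (C := CommRingCat.{u}) V (g x) h sharp.hom a)).trans ?_
  exact congr($(TopCat.Presheaf.stalkPushforward_germ (C := CommRingCat.{u}) g OX.obj V x h)
    (sharp.hom.app (op V) a))

variable (M : ModSite.Mod OY)

/-- The unit on sections. -/
noncomputable def uS {V : Opens Y} (m : Sct M V) : Sct ((mor g sharp).pull.obj M) (pre g V) :=
  ap ((mor g sharp).adj.unit.app M) V m

theorem uS_add {V : Opens Y} (m m' : Sct M V) : uS g sharp M (m + m') = uS g sharp M m + uS g sharp M m' :=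
  map_add (ap ((mor g sharp).adj.unit.app M) V) m m'

theorem uS_zero {V : Opens Y} : uS g sharp M (0 : Sct M V) = 0 :=
  map_zero (ap ((mor g sharp).adj.unit.app M) V)

theorem uS_smul {V : Opens Y} (a : Fn OY V) (m : Sct M V) :
    uS g sharp M (a • m) = shV g sharp V a • uS g sharp M m :=
  (ap ((mor g sharp).adj.unit.app M) V).map_smul a m

theorem uS_rM {V W : Opens Y} (l : W ≤ V) (m : Sct M V) :
    rM ((mor g sharp).pull.obj M) (pre_mono g l) (uS g sharp M m) = uS g sharp M (rM M l m) :=
  rM_ap ((mor g sharp).adj.unit.app M) l m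

/-- Maps out of the inverse image are determined by their composites with the unit on sections. -/
theorem homEquiv_ap {F : ModSite.Mod OX} (φ : (mor g sharp).pull.obj M ⟶ F) (V : Opens Y) (m : Sct M V) :
    ap ((mor g sharp).adj.homEquiv M F φ) V m = ap φ (pre g V) (uS g sharp M m) := by
  rw [Adjunction.homEquiv_unit]
  rfl

variable (x : X)

/-- The canonical additive map on stalks. -/
noncomputable def pSt : MSt M (g x) →+ MSt ((mor g sharp).pull.obj M) x :=
  (colimit.desc ((OpenNhds.inclusion (g x)).op ⋙ ((forg OY).obj M).presheaf)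
    ⟨MSt ((mor g sharp).pull.obj M) x,
      { app := fun U => AddCommGrpCat.ofHom
          ((gM ((mor g sharp).pull.obj M) (x := x) (V := pre g U.unop.1) U.unop.2).comp
            (AddMonoidHom.mk' (uS g sharp M) (uS_add g sharp M)))
        naturality := fun U U' i => by
          ext m
          show gM _ (V := pre g U'.unop.1) U'.unop.2 (uS g sharp M (rM M (leOfHom i.unop) m)) = _
          rw [← uS_rM, gM_rM]
          rfl }⟩).hom

theorem pSt_gM {V : Opens Y} (h : g x ∈ V) (m : Sct M V) :
    pSt g sharp M x (gM M h m) = gM ((mor g sharp).pull.obj M) (x := x) (V := pre g V) h (uS g sharp M m) := by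
  show (colimit.ι ((OpenNhds.inclusion (g x)).op ⋙ ((forg OY).obj M).presheaf)
    (op (⟨V, h⟩ : OpenNhds (g x))) ≫ colimit.desc _ _) m = _
  rw [colimit.ι_desc]
  rfl

theorem pSt_smul (r : RSt OY (g x)) (m : MSt M (g x)) :
    pSt g sharp M x (r • m) = shSt g sharp x r • pSt g sharp M x m := by
  obtain ⟨V, h, a, s, rfl, rfl⟩ := exists_gM_pair M (g x) r m
  rw [← gM_smul, pSt_gM, pSt_gM, uS_smul, gM_smul, shSt_gR]

/-- The stalk of `O_X` as an algebra over that of `O_Y`. -/
@[instance_reducible]
noncomputable def stAlg : Algebra (RSt OY (g x)) (RSt OX x) := (shSt g sharp x).toAlgebra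

section BaseChange

variable [Algebra (RSt OY (g x)) (RSt OX x)] (halg : algebraMap (RSt OY (g x)) (RSt OX x) = shSt g sharp x)

/-- The base change of the stalk. -/
abbrev BSt : Type u := (RSt OX x : Type u) ⊗[RSt OY (g x)] (MSt M (g x) : Type u)

/-- The comparison. -/
noncomputable def pStL : (BSt (OX := OX) g M x) →ₗ[RSt OX x] MSt ((mor g sharp).pull.obj M) x :=
  letI : Module (RSt OY (g x)) (MSt ((mor g sharp).pull.obj M) x) := Module.compHom _ (shSt g sharp x)
  haveI : IsScalarTower (RSt OY (g x)) (RSt OX x) (MSt ((mor g sharp).pull.obj M) x) :=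
    .of_algebraMap_smul fun r m => by rw [halg]; rfl
  LinearMap.liftBaseChange (RSt OX x)
    { toFun := pSt g sharp M x
      map_add' := map_add _
      map_smul' := pSt_smul g sharp M x }

include halg in
theorem pStL_tmul (r : RSt OX x) (m : MSt M (g x)) :
    pStL g sharp M x halg (r ⊗ₜ m) = r • pSt g sharp M x m := by
  simp [pStL]

include halg in
theorem bijective_pStL : Function.Bijective (pStL g sharp M x halg) := by
  constructor
  · let γ : M ⟶ (mor g sharp).push.obj (sky OX x ((BSt (OX := OX) g M x))) :=
      { val := PresheafOfModules.homMk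
          { app := fun U => AddCommGrpCat.ofHom
              { toFun := fun m (h : ULift.{u} (PLift (x ∈ pre g U.unop))) =>
                  ((1 : RSt OX x) ⊗ₜ gM M (x := g x) h.down.down m : (BSt (OX := OX) g M x))
                map_zero' := funext fun h => by
                  show (1 : RSt OX x) ⊗ₜ gM M (x := g x) h.down.down 0 = (0 : (BSt (OX := OX) g M x))
                  rw [map_zero, tmul_zero]
                map_add' := fun a b => funext fun h =>
                  (congrArg (fun z => ((1 : RSt OX x) ⊗ₜ z : (BSt (OX := OX) g M x)))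
                    (map_add (gM M (x := g x) h.down.down) a b)).trans (tmul_add _ _ _) }
            naturality := fun U U' i => by
              ext a
              funext h
              exact congrArg (fun z => ((1 : RSt OX x) ⊗ₜ z : (BSt (OX := OX) g M x)))
                (gM_rM M i.unop.le h.down.down a) }
          fun U r a => funext fun h => by
            show (1 : RSt OX x) ⊗ₜ gM M (x := g x) h.down.down ((show Fn OY U.unop from r) • (show Sct M U.unop from a)) =
              gR h.down.down (shV g sharp U.unop (show Fn OY U.unop from r)) •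
                ((1 : RSt OX x) ⊗ₜ gM M (x := g x) h.down.down a : (BSt (OX := OX) g M x))
            rw [gM_smul, tmul_smul, ← algebraMap_smul (RSt OX x), halg, shSt_gR]
            rfl }
    let γt := ((mor g sharp).adj.homEquiv M _).symm γ
    let F := (mor g sharp).pull.obj M
    have key : ∀ (t : (BSt (OX := OX) g M x)), ∃ (V : Opens X) (h : x ∈ V) (s : Sct F V),
        gM F h s = pStL g sharp M x halg t ∧ skyEval x ((BSt (OX := OX) g M x)) h (ap γt V s) = t := by
      intro t
      induction t using TensorProduct.induction_on with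
      | zero => exact ⟨⊤, trivial, 0, by rw [map_zero, map_zero], by rw [map_zero, map_zero]⟩
      | add a b ha hb =>
        obtain ⟨V, hV, s, h1, h2⟩ := ha
        obtain ⟨W, hW, s', h1', h2'⟩ := hb
        refine ⟨V ⊓ W, ⟨hV, hW⟩, rM F inf_le_left s + rM F inf_le_right s', ?_, ?_⟩
        · rw [map_add, gM_rM, gM_rM, h1, h1', map_add]
        · rw [map_add, map_add, ← rM_ap, ← rM_ap, skyEval_rM, skyEval_rM, h2, h2']
      | tmul r m =>
        obtain ⟨V, -, hV, m, rfl⟩ := exists_gM M (U := ⊤) (x := g x) trivial m
        obtain ⟨W, l, hW, r, rfl⟩ := exists_gR (O := OX) (U := pre g V) (x := x) hV r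
        refine ⟨W, hW, r • rM F l (uS g sharp M m), ?_, ?_⟩
        · rw [gM_smul, gM_rM, pStL_tmul, pSt_gM]
        · have h2 := homEquiv_ap g sharp M γt V m
          rw [Equiv.apply_symm_apply] at h2
          rw [map_smul, skyEval_smul, ← rM_ap, skyEval_rM, ← h2]
          show gR hW r • ((1 : RSt OX x) ⊗ₜ gM M (x := g x) hV m : (BSt (OX := OX) g M x)) = _
          rw [TensorProduct.smul_tmul', smul_eq_mul, mul_one]
    intro a b hab
    obtain ⟨V, hV, s, h1, h2⟩ := key a
    obtain ⟨W, hW, s', h1', h2'⟩ := key b
    rw [← h2, ← h2']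
    exact skyEval_congr γt hV hW s s' (h1.trans (hab.trans h1'.symm))
  · let F := (mor g sharp).pull.obj M
    let P : Submodule (RSt OX x) (MSt F x) := LinearMap.range (pStL g sharp M x halg)
    have h0 : homOfStalk (F := F) P.mkQ = 0 := by
      apply ((mor g sharp).adj.homEquiv M (sky OX x (MSt F x ⧸ P))).injective
      apply SheafOfModules.hom_ext
      refine PresheafOfModules.hom_ext fun U => ModuleCat.hom_ext (LinearMap.ext fun m => ?_)
      show ap _ U.unop m = ap _ U.unop m
      rw [homEquiv_ap, homEquiv_ap, ap_zero]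
      refine sky_ext x (MSt F x ⧸ P) fun hx => ?_
      rw [skyEval_homOfStalk, map_zero]
      refine (Submodule.Quotient.mk_eq_zero P).mpr ⟨1 ⊗ₜ gM M (x := g x) hx m, ?_⟩
      rw [pStL_tmul, one_smul, pSt_gM]
    intro z
    obtain ⟨V, -, hV, a, rfl⟩ := exists_gM F (U := ⊤) (x := x) trivial z
    refine (Submodule.Quotient.mk_eq_zero P).mp ?_
    have h1 := skyEval_homOfStalk (F := F) P.mkQ hV a
    rw [h0, ap_zero, map_zero] at h1
    exact h1.symm

end BaseChange

variable {M}

theorem pSt_naturality {M' : ModSite.Mod OY} (φ : M ⟶ M') (m : MSt M (g x)) :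
    apSt ((mor g sharp).pull.map φ) x (pSt g sharp M x m) = pSt g sharp M' x (apSt φ (g x) m) := by
  obtain ⟨V, -, hV, m, rfl⟩ := exists_gM M (U := ⊤) (x := g x) trivial m
  rw [pSt_gM, apSt_gM, apSt_gM, pSt_gM]
  congr 1
  exact congrArg (fun q : M ⟶ (mor g sharp).push.obj ((mor g sharp).pull.obj M') =>
    ap q V m) ((mor g sharp).adj.unit.naturality φ).symm

end Groth.Agent.H8FTors
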